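import Groth.Agent.CmpTop.Vanish
import Mathlib.Algebra.Homology.DerivedCategory.SingleTriangle
import Mathlib.Algebra.Homology.DerivedCategory.Ext.Basic
import Mathlib.CategoryTheory.Sites.SheafCohomology.Basic

/-! # Consequences of the vanishing -/

set_option autoImplicit false
set_option linter.all false
set_option backward.isDefEq.respectTransparency false
set_option backward.defeqAttrib.useBackward true

universe w v u

open CategoryTheory CategoryTheory.Limits Opposite DerivedCategory Pretriangulated CategoryTheory.Abelian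

attribute [local instance] HasDerivedCategory.standard

namespace Groth.Agent.CmpTop

section Abstract

variable {A : Type u} [Category.{v} A] [Abelian A] [HasDerivedCategory.{w} A] {Zc : ObjectProperty A}

/-- a glued short exact pair with `Zc` end term -/
theorem isZero_of_van {a b i c q : A} {f : a ⟶ b} {g : b ⟶ i} {f' : i ⟶ c} {g' : c ⟶ q} {w : f ≫ g = 0}
    {w' : f' ≫ g' = 0} (h₁ : (ShortComplex.mk f g w).ShortExact) (h₂ : (ShortComplex.mk f' g' w').ShortExact)
    (ha : Van Zc a 2) (hb : Van Zc b 1) (hc : Van Zc c 0) (hq : Zc q) : IsZero q := by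
  let e₁ : ∀ M : A, (((singleFunctor A 0).obj M)⟦(1 : ℤ)⟧) ≅ (singleFunctor A (-1)).obj M :=
    fun M => ((singleFunctors A).shiftIso 1 (-1) 0 (by omega)).app M
  let e₂ : ∀ M : A, (((singleFunctor A (-1)).obj M)⟦(1 : ℤ)⟧) ≅ (singleFunctor A (-2)).obj M :=
    fun M => ((singleFunctors A).shiftIso 1 (-2) (-1) (by omega)).app M
  have hT := rot_of_distTriang _ (rot_of_distTriang _ (rot_of_distTriang _ h₁.singleTriangle_distinguished))
  let e : (singleFunctor A 0).obj q ⟶ ((singleFunctor A 0).obj i)⟦(1 : ℤ)⟧ := h₂.singleδ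
  obtain ⟨χ, hχ⟩ := Triangle.coyoneda_exact₃ _ hT e (by
    rw [← cancel_mono ((shiftFunctor _ (1 : ℤ)).map (e₁ a).hom ≫ (e₂ a).hom), zero_comp]
    exact ha.single (by omega) hq _)
  have hχ0 : χ = 0 := by
    rw [← cancel_mono (e₁ b).hom, zero_comp]
    exact hb.single (by omega) hq _
  have he : e = 0 := by rw [hχ, hχ0]; exact zero_comp
  obtain ⟨s, hs⟩ := Triangle.coyoneda_exact₃ _ h₂.singleTriangle_distinguished (𝟙 ((singleFunctor A 0).obj q)) (by
    rw [Category.id_comp]; exact he)
  have hs0 : s = 0 := hc 0 le_rfl q hq s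
  rw [IsZero.iff_id_eq_zero]
  apply (singleFunctor A 0).map_injective
  rw [CategoryTheory.Functor.map_id, Functor.map_zero, hs, hs0]
  exact zero_comp

end Abstract

section

variable {D : Type*} [Category* D] [Preadditive D]

/-- conjugating maps by isomorphisms, additively -/
def homAddCongr {X X' Y Y' : D} (e : X ≅ X') (e' : Y ≅ Y') : (X ⟶ Y) ≃+ (X' ⟶ Y') :=
  { Iso.homCongr e e' with map_add' := fun a b => by simp [Preadditive.comp_add, Preadditive.add_comp] }

end


section Adj

variable {E : Type u} [SmallCategory E] {K K' : GrothendieckTopology E} (h : K' ≤ K)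
include h

theorem nonempty_ext_equiv (P : Ab K') {G : Ab K} (hG : ∀ i : ℕ, 1 ≤ i → IsZero (((eps h).rightDerived i).obj G))
    (n : ℕ) : Nonempty (Ext.{u} P ((eps h).obj G) n ≃+ Ext.{u} ((shfy K K').obj P) G n) := by
  haveI := preservesFiniteColimits_shfy h
  let Rd := (eps h).mapHomotopyCategory (ComplexShape.up ℤ) ⋙ DerivedCategory.Qh
  haveI : Rd.HasRightDerivedFunctor (HomotopyCategory.quasiIso _ (ComplexShape.up ℤ)) :=
    (Groth.Agent.S1032.result SiteDer.exists_kInj Rd).1
  obtain ⟨adj⟩ := SiteDer.nonempty_derivedAdjunction (shfy K K') (eps h) (shfyAdj h)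
  letI := adj.rightAdjointCommShift ℤ
  haveI := adj.commShift_of_leftAdjoint ℤ
  haveI := adj.isTriangulated_rightAdjoint
  haveI := adj.right_adjoint_additive
  let RR := Rd.totalRightDerived DerivedCategory.Qh (HomotopyCategory.quasiIso _ (ComplexShape.up ℤ))
  let η := Rd.totalRightDerivedUnit DerivedCategory.Qh (HomotopyCategory.quasiIso _ (ComplexShape.up ℤ))
  have hη : ∀ Z, SiteDer.kInjP Z → IsIso (η.app Z) := fun Z hZ => SiteDer.isIso_unit (eps h) hZ
  let X := RR.obj ((singleFunctor (Ab K) 0).obj G)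
  haveI : X.IsGE 0 := SiteRlim.isGE_rightDerived_single (eps h) RR η hη G 0
  haveI : X.IsLE 0 := by
    rw [DerivedCategory.isLE_iff]
    intro i hi
    obtain ⟨p, rfl⟩ : ∃ p : ℕ, i = p := ⟨i.toNat, by omega⟩
    exact (hG p (by omega)).of_iso (SiteRlim.nonempty_homology_rightDerived_single (eps h) RR η hη G 0 p p (by simp)).some
  haveI : PreservesFiniteLimits (eps h) :=
    haveI := (shfyAdj h).rightAdjoint_preservesLimits
    PreservesLimitsOfSize.preservesFiniteLimits.{u, u} _
  obtain ⟨e₀⟩ := DerCat.exists_iso_single_homology X 0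
  obtain ⟨e₁⟩ := SiteRlim.nonempty_homology_rightDerived_single (eps h) RR η hη G 0 0 0 (by simp)
  let eX : X ≅ (singleFunctor (Ab K') 0).obj ((eps h).obj G) :=
    e₀ ≪≫ (singleFunctor (Ab K') 0).mapIso (e₁ ≪≫ (eps h).rightDerivedZeroIsoSelf.app G)
  exact ⟨Ext.homAddEquiv.trans
    ((homAddCongr (Iso.refl _) ((shiftFunctor _ (n : ℤ)).mapIso eX.symm ≪≫ ((RR.commShiftIso (n : ℤ)).app _).symm)).trans
      ((adj.homAddEquiv _ _).symm.trans
        ((homAddCongr (((shfy K K').mapDerivedCategorySingleFunctor 0).app P) (Iso.refl _)).trans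
          Ext.homAddEquiv.symm)))⟩

end Adj

section Setting

variable {C : Type u} [SmallCategory C] {J J' : GrothendieckTopology C} (h : J' ≤ J)
  (A' : ∀ X : C, ObjectProperty (Sheaf (J'.over X) AddCommGrpCat.{u})) [∀ X : C, WSerre.IsWeakSerre (A' X)]
  (h3 : ∀ (X : C) (F' : Sheaf (J'.over X) AddCommGrpCat.{u}), A' X F' → Presheaf.IsSheaf (J.over X) F'.obj)
include h h3

omit [∀ X : C, WSerre.IsWeakSerre (A' X)] in
theorem nonempty_unit_iso (X : C) (M : Sheaf (J'.over X) AddCommGrpCat.{u}) (hM : A' X M) :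
    Nonempty (M ≅ (epsAt h X).obj ((shfy (J.over X) (J'.over X)).obj M)) :=
  ⟨@asIso _ _ _ _ ((shfyAdj (SiteCmp.over_le h X)).unit.app M) (isIso_shfy_unit _ M (h3 X M hM))⟩

theorem prop_cokernel_eps (X : C) {F G : Sheaf (J.over X) AddCommGrpCat.{u}} (f : F ⟶ G)
    (hF : A' X ((epsAt h X).obj F)) (hG : A' X ((epsAt h X).obj G)) (k : CokernelCofork f) (hk : IsColimit k) :
    A' X ((epsAt h X).obj k.pt) := by
  haveI := preservesFiniteColimits_shfy (SiteCmp.over_le h X)
  haveI := isIso_shfy_counit (SiteCmp.over_le h X)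
  let L := shfy (J.over X) (J'.over X)
  let ad := shfyAdj (SiteCmp.over_le h X)
  have hC := SiteDer.prop_cokernel (A' X) ((epsAt h X).map f) hF hG
  obtain ⟨e⟩ := nonempty_unit_iso h A' h3 X _ hC
  let e' : L.obj (cokernel ((epsAt h X).map f)) ≅ k.pt :=
    PreservesCokernel.iso L _ ≪≫
      cokernel.mapIso _ f (asIso (ad.counit.app F)) (asIso (ad.counit.app G)) (ad.counit.naturality f) ≪≫
      (cokernelIsCokernel f).coconePointUniqueUpToIso hk
  exact (A' X).prop_of_iso (e ≪≫ (epsAt h X).mapIso e') hC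

variable (hV : ∀ n, Vn h A' n)
include hV

theorem prop_extension_eps (X : C) {S : ShortComplex (Sheaf (J.over X) AddCommGrpCat.{u})} (hS : S.ShortExact)
    (h₁ : A' X ((epsAt h X).obj S.X₁)) (h₃ : A' X ((epsAt h X).obj S.X₃)) : A' X ((epsAt h X).obj S.X₂) := by
  let R := epsAt h X
  haveI := preservesFiniteColimits_shfy (SiteCmp.over_le h X)
  haveI := isIso_shfy_counit (SiteCmp.over_le h X)
  haveI : PreservesFiniteLimits R :=
    haveI := (shfyAdj (SiteCmp.over_le h X)).rightAdjoint_preservesLimits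
    PreservesLimitsOfSize.preservesFiniteLimits.{u, u} _
  haveI := hS.mono_f
  haveI := hS.epi_g
  let q := R.map S.g
  have hex := hS.exact.map_of_mono_of_preservesKernel R hS.mono_f inferInstance
  haveI : Mono (R.map S.f) := inferInstance
  haveI : Epi q := by
    refine Preadditive.epi_of_cokernel_iso_zero (IsZero.isoZero ?_)
    let pi := cokernel.π q
    let i := kernel.ι pi
    let p : R.obj S.X₂ ⟶ kernel pi := kernel.lift pi q (cokernel.condition q)
    haveI : Epi p := ((ShortComplex.mk q pi (cokernel.condition q)).exact_iff_epi_kernel_lift).1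
      (ShortComplex.exact_cokernel q)
    have w₁ : R.map S.f ≫ p = 0 := by
      rw [← cancel_mono i, Category.assoc, kernel.lift_ι, zero_comp]
      exact (R.map_comp _ _).symm.trans (by rw [S.zero, R.map_zero])
    have hs₁ : (ShortComplex.mk (R.map S.f) p w₁).ShortExact :=
      { exact := (ShortComplex.exact_iff_of_epi_of_isIso_of_mono
          (S₁ := ShortComplex.mk (R.map S.f) p w₁) (S₂ := S.map R)
          ⟨𝟙 _, 𝟙 _, i, by simp, by simp [p, i, q]⟩).2 hex }
    have hs₂ : (ShortComplex.mk i pi (kernel.condition pi)).ShortExact :=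
      { exact := ShortComplex.exact_of_f_is_kernel _ (kernelIsKernel pi) }
    refine isZero_of_van (Zc := locZero (J.over X) (J'.over X)) hs₁ hs₂ ?_ ?_ ?_ ?_
    · exact van_eps (SiteCmp.over_le h X) S.X₁ 1 (fun i hi1 hi => hV 1 X S.X₁ h₁ i hi1 hi)
    · exact van_eps (SiteCmp.over_le h X) S.X₂ 0 (fun i hi1 hi => absurd hi (by omega))
    · exact fun a ha N hN φ => van_eps (SiteCmp.over_le h X) S.X₃ 0 (fun i hi1 hi => absurd hi (by omega)) a
        (by omega) N hN φ
    · let L := shfy (J.over X) (J'.over X)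
      let ad := shfyAdj (SiteCmp.over_le h X)
      exact IsZero.of_iso (isZero_cokernel_of_epi S.g) (PreservesCokernel.iso L _ ≪≫
        cokernel.mapIso _ S.g (asIso (ad.counit.app S.X₂)) (asIso (ad.counit.app S.X₃)) (ad.counit.naturality S.g))
  exact (A' X).prop_X₂_of_shortExact (S := S.map R)
    (ShortComplex.ShortExact.mk' hex (inferInstanceAs (Mono (R.map S.f))) (inferInstanceAs (Epi q))) h₁ h₃

theorem isWeakSerre_eps (X : C) :
    WSerre.IsWeakSerre ((A' X).inverseImage (SiteCmp.epsSh (SiteCmp.over_le h X) AddCommGrpCat.{u})) :=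
  haveI : PreservesFiniteLimits (epsAt h X) :=
    haveI := (shfyAdj (SiteCmp.over_le h X)).rightAdjoint_preservesLimits
    PreservesLimitsOfSize.preservesFiniteLimits.{u, u} _
  { exists_zero := ⟨_, isZero_zero _, (A' X).prop_of_isZero ((epsAt h X).map_isZero (isZero_zero _))⟩
    kernels_le := by
      rintro _ ⟨f, k, hk, hf⟩
      exact (A' X).prop_of_iso ((PreservesKernel.iso (epsAt h X) f).symm ≪≫
        (epsAt h X).mapIso ((kernelIsKernel f).conePointUniqueUpToIso hk))
        (SiteDer.prop_kernel (A' X) ((epsAt h X).map f) hf.1 hf.2)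
    cokernels_le := by
      rintro _ ⟨f, k, hk, hf⟩
      exact prop_cokernel_eps h A' h3 X f hf.1 hf.2 k hk
    prop_X₂_of_shortExact := fun hS h₁ h₃ => prop_extension_eps h A' h3 hV X hS h₁ h₃ }

theorem nonempty_HU_equiv (X : C) (F' : Sheaf (J'.over X) AddCommGrpCat.{u}) (hF' : A' X F') (n : ℕ) (U : Over X) :
    Nonempty (CohSite.HU F' n U ≃+
      CohSite.HU ((SiteCmp.epsShInv (SiteCmp.over_le h X) AddCommGrpCat.{u}).obj F') n U) := by
  let le := SiteCmp.over_le h X
  let G := (shfy (J.over X) (J'.over X)).obj F'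
  obtain ⟨e⟩ := nonempty_unit_iso h A' h3 X F' hF'
  let P' := yoneda.obj U ⋙ AddCommGrpCat.free.{u}
  obtain ⟨φ⟩ := nonempty_ext_equiv le ((presheafToSheaf (J'.over X) AddCommGrpCat.{u}).obj P') (G := G)
    (fun i hi => hV i X G ((A' X).prop_of_iso e hF') i hi le_rfl) n
  let eP : (shfy (J.over X) (J'.over X)).obj ((presheafToSheaf (J'.over X) AddCommGrpCat.{u}).obj P') ≅
      (presheafToSheaf (J.over X) AddCommGrpCat.{u}).obj P' :=
    (Adjunction.leftAdjointUniq (((sheafificationAdjunction (J'.over X) AddCommGrpCat.{u}).comp (shfyAdj le)).ofNatIsoRight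
      (epsPreIso le).symm) (sheafificationAdjunction (J.over X) AddCommGrpCat.{u})).app P'
  let eG : G ≅ (SiteCmp.epsShInv le AddCommGrpCat.{u}).obj F' :=
    (Adjunction.leftAdjointUniq (shfyAdj le) (SiteCmp.epsShAdj le AddCommGrpCat.{u})).app F'
  exact ⟨Ext.homAddEquiv.trans ((homAddCongr (Iso.refl _)
    ((shiftFunctor _ (n : ℤ)).mapIso ((singleFunctor _ 0).mapIso e))).trans (Ext.homAddEquiv.symm.trans
      (φ.trans (Ext.homAddEquiv.trans ((homAddCongr ((singleFunctor _ 0).mapIso eP)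
        ((shiftFunctor _ (n : ℤ)).mapIso ((singleFunctor _ 0).mapIso eG))).trans Ext.homAddEquiv.symm)))))⟩

omit hV in
theorem nonempty_rightDerived_iso_of_Vn {X Y : C} (f : X ⟶ Y) (n : ℕ) (hVn : Vn h A' n)
    (F : Sheaf (J.over X) AddCommGrpCat.{u}) (hF : A' X ((epsAt h X).obj F))
    (hR : ∀ i, A' Y (((rpush f J').rightDerived i).obj ((epsAt h X).obj F))) (i : ℕ) (hi : i ≤ n) :
    Nonempty (((rpush f J').rightDerived i).obj ((epsAt h X).obj F) ≅
      (epsAt h Y).obj (((rpush f J).rightDerived i).obj F)) := by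
  let leX := SiteCmp.over_le h X
  let leY := SiteCmp.over_le h Y
  haveI := preservesFiniteColimits_shfy leX
  let Rd := (rpush f J').mapHomotopyCategory (ComplexShape.up ℤ) ⋙ DerivedCategory.Qh
  haveI : Rd.HasRightDerivedFunctor (HomotopyCategory.quasiIso _ (ComplexShape.up ℤ)) :=
    (Groth.Agent.S1032.result SiteDer.exists_kInj Rd).1
  obtain ⟨adj⟩ := SiteDer.nonempty_derivedAdjunction (restr f J') (rpush f J') (restrAdj f J')
  letI := adj.rightAdjointCommShift ℤ
  haveI := adj.commShift_of_leftAdjoint ℤ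
  haveI := adj.isTriangulated_rightAdjoint
  let RR := Rd.totalRightDerived DerivedCategory.Qh (HomotopyCategory.quasiIso _ (ComplexShape.up ℤ))
  let η := Rd.totalRightDerivedUnit DerivedCategory.Qh (HomotopyCategory.quasiIso _ (ComplexShape.up ℤ))
  have hη : ∀ Z, SiteDer.kInjP Z → IsIso (η.app Z) := fun Z hZ => SiteDer.isIso_unit (rpush f J') hZ
  let T := Tobj leX F
  haveI := isGE_Tobj leX F
  obtain ⟨e₀⟩ := exists_truncLE_single T n fun j h1 h2 => by
    obtain ⟨p, rfl⟩ : ∃ p : ℕ, j = p := ⟨j.toNat, by omega⟩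
    exact (hVn X F hF p (by omega) (by omega)).of_iso (nonempty_homology_Tobj leX F p).some
  obtain ⟨eH⟩ := nonempty_homology_Tobj_zero leX F
  let τ := (TStructure.t.truncLEι (n : ℤ)).app T
  have hT := RR.map_distinguished _ (TStructure.t.triangleLEGT_distinguished (n : ℤ) T)
  haveI : ((TStructure.t.truncGT (n : ℤ)).obj T).IsGE ((n : ℤ) + 1) := inferInstance
  haveI := SiteDer.isGE_rightAdjoint adj ((TStructure.t.truncGT (n : ℤ)).obj T) ((n : ℤ) + 1)
  haveI : Mono ((homologyFunctor _ (i : ℤ)).map (RR.map τ)) :=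
    (HomologySequence.mono_homologyMap_mor₁_iff _ hT ((i : ℤ) - 1) i (by omega)).2
      ((isZero_of_isGE (RR.obj ((TStructure.t.truncGT (n : ℤ)).obj T)) ((n : ℤ) + 1) _ (by omega)).eq_of_src _ _)
  haveI : Epi ((homologyFunctor _ (i : ℤ)).map (RR.map τ)) :=
    (HomologySequence.epi_homologyMap_mor₁_iff _ hT i).2
      ((isZero_of_isGE (RR.obj ((TStructure.t.truncGT (n : ℤ)).obj T)) ((n : ℤ) + 1) _ (by omega)).eq_of_tgt _ _)
  haveI := isIso_of_mono_of_epi ((homologyFunctor _ (i : ℤ)).map (RR.map τ))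
  let e' := e₀ ≪≫ (singleFunctor _ 0).mapIso eH
  obtain ⟨e₁⟩ := SiteRlim.nonempty_homology_rightDerived_single (rpush f J') RR η hη ((epsAt h X).obj F) 0 i i (by simp)
  let I := (injectiveResolution F).cochainComplex
  haveI : I.IsKInjective := CochainComplex.isKInjective_of_injective _ 0
  let εI := ((epsAt h X).mapHomologicalComplex (ComplexShape.up ℤ)).obj I
  haveI : CochainComplex.IsKInjective εI := DerCat.isKInjective_map_rightAdjoint (shfyAdj leX) I
  haveI := hη _ ⟨εI, inferInstance, ⟨Iso.refl _⟩⟩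
  let fI := ((rpush f J).mapHomologicalComplex (ComplexShape.up ℤ)).obj I
  let ec : rpush f J ⋙ epsAt h Y ≅ epsAt h X ⋙ rpush f J' :=
    NatIso.ofComponents (fun G => (fullyFaithfulSheafToPresheaf (J'.over Y) AddCommGrpCat.{u}).preimageIso
      (NatIso.ofComponents (fun U => Iso.refl _))) (fun {G G'} a => by
      apply (sheafToPresheaf (J'.over Y) AddCommGrpCat.{u}).map_injective
      ext U x
      rfl)
  let em : RR.obj T ≅ Q.obj (((rpush f J').mapHomologicalComplex (ComplexShape.up ℤ)).obj εI) :=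
    RR.mapIso ((quotientCompQhIso _).app εI).symm ≪≫ (asIso (η.app ((HomotopyCategory.quotient _ _).obj εI))).symm ≪≫
      DerivedCategory.Qh.mapIso (((rpush f J').mapHomotopyCategoryFactors (ComplexShape.up ℤ)).app εI) ≪≫
      (quotientCompQhIso _).app _
  let N := (((epsAt h Y).mapHomologicalComplex (ComplexShape.up ℤ)).obj fI).homology (i : ℤ)
  let eN : ((rpush f J').rightDerived i).obj ((epsAt h X).obj F) ≅ N :=
    e₁.symm ≪≫ (homologyFunctor _ (i : ℤ)).mapIso (RR.mapIso e'.symm) ≪≫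
      asIso ((homologyFunctor _ (i : ℤ)).map (RR.map τ)) ≪≫ (homologyFunctor _ (i : ℤ)).mapIso em ≪≫
      (homologyFunctorFactors _ (i : ℤ)).app _ ≪≫
      HomologicalComplex.homologyMapIso ((NatIso.mapHomologicalComplex ec (ComplexShape.up ℤ)).app I).symm _
  obtain ⟨eu⟩ := nonempty_unit_iso h A' h3 Y N ((A' Y).prop_of_iso eN (hR i))
  obtain ⟨eL⟩ := nonempty_shfy_homology leY fI (i : ℤ)
  exact ⟨eN ≪≫ eu ≪≫ (epsAt h Y).mapIso (eL ≪≫
    HomologicalComplex.homologyMapIso (GrothSS.mapExtendIso (rpush f J) (injectiveResolution F).cocomplex) _ ≪≫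
    HomologicalComplex.extendHomologyIso _ ComplexShape.embeddingUpNat (j := i) rfl ≪≫
    ((injectiveResolution F).isoRightDerivedObj (rpush f J) i).symm)⟩

end Setting

end Groth.Agent.CmpTop
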