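import Groth.Agent.SiteCoh.OverExact

/-! # Relocalisation along `C/X ⥤ C/Y` is exact and preserves K-injectives -/

set_option autoImplicit false
set_option linter.all false

universe u

open CategoryTheory CategoryTheory.Limits Opposite

namespace Groth.Agent.CmpTop

variable {C : Type u} [SmallCategory C] {X Y : C} (f : X ⟶ Y)

/-- lifts along `f` of an object over `Y` -/
abbrev Lifts (V : Over Y) : Type u := {g : V.left ⟶ X // g ≫ f = V.hom}

/-- the discrete category of lifts inside the costructured arrows -/
def discIncl (V : Over Y) : Discrete (Lifts f V) ⥤ CostructuredArrow (Over.map f).op (op V) :=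
  Discrete.functor fun g => CostructuredArrow.mk (S := (Over.map f).op) (Y := op (Over.mk g.1))
    (Over.homMk (U := V) (V := (Over.map f).obj (Over.mk g.1)) (𝟙 V.left) (by simpa using g.2)).op

/-- the retraction -/
def discRetr (V : Over Y) : CostructuredArrow (Over.map f).op (op V) ⥤ Discrete (Lifts f V) where
  obj d := ⟨⟨d.hom.unop.left ≫ d.left.unop.hom, by simpa using Over.w d.hom.unop⟩⟩
  map {d d'} φ := Discrete.eqToHom (Subtype.ext (by
    have h := congrArg (fun t => t.unop.left) (CostructuredArrow.w φ)
    simp only [Functor.op_map, unop_comp, Quiver.Hom.unop_op, Over.comp_left, Over.map_map_left] at h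
    show d.hom.unop.left ≫ d.left.unop.hom = d'.hom.unop.left ≫ d'.left.unop.hom
    rw [← h, Category.assoc]
    exact congrArg (d'.hom.unop.left ≫ ·) (Over.w φ.left.unop)))
  map_id _ := Subsingleton.elim _ _
  map_comp _ _ := Subsingleton.elim _ _

instance (V : Over Y) (d : CostructuredArrow (Over.map f).op (op V)) (g : Discrete (Lifts f V)) :
    Subsingleton (d ⟶ (discIncl f V).obj g) := ⟨fun a b => by
  have key : ∀ c : d ⟶ (discIncl f V).obj g, c.left.unop.left = d.hom.unop.left := fun c => by
    have h := congrArg (fun t => t.unop.left) (CostructuredArrow.w c)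
    simpa [discIncl] using h
  exact CostructuredArrow.hom_ext _ _ (Quiver.Hom.unop_inj (Over.OverMorphism.ext ((key a).trans (key b).symm)))⟩

/-- the adjunction -/
noncomputable def discAdj (V : Over Y) : discRetr f V ⊣ discIncl f V :=
  Adjunction.mkOfHomEquiv
    { homEquiv := fun d g =>
        { toFun := fun e => CostructuredArrow.homMk
            (Over.homMk (U := Over.mk g.as.1) (V := d.left.unop) d.hom.unop.left
              (congrArg Subtype.val (Discrete.eq_of_hom e))).op
            (Quiver.Hom.unop_inj (Over.OverMorphism.ext (by simp [discIncl])))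
          invFun := fun c => Discrete.eqToHom (Subtype.ext (by
            have h : c.left.unop.left = d.hom.unop.left := by
              have := congrArg (fun t => t.unop.left) (CostructuredArrow.w c)
              simpa [discIncl] using this
            have hw := Over.w c.left.unop
            rw [h] at hw
            exact hw))
          left_inv := fun _ => Subsingleton.elim _ _
          right_inv := fun _ => Subsingleton.elim _ _ }
      homEquiv_naturality_left_symm := fun _ _ => Subsingleton.elim _ _
      homEquiv_naturality_right := fun _ _ => Subsingleton.elim _ _ }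

instance (V : Over Y) : (discIncl f V).Final := Functor.final_of_adjunction (discAdj f V)

instance lan_preservesMonomorphisms :
    ((Over.map f).op.lan : ((Over X)ᵒᵖ ⥤ AddCommGrpCat.{u}) ⥤ _).PreservesMonomorphisms where
  preserves {P Q} φ _ := by
    haveI : ∀ V : (Over Y)ᵒᵖ, Mono (((Over.map f).op.lan.map φ).app V) := by
      rintro ⟨V⟩
      let e := lanEvaluationIsoColim (E := AddCommGrpCat.{u}) (Over.map f).op (op V)
      let Φ := (Functor.whiskeringLeft _ _ AddCommGrpCat.{u}).obj
        (CostructuredArrow.proj (Over.map f).op (op V))
      haveI : Mono (Functor.whiskerLeft (discIncl f V) (Φ.map φ)) :=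
        @NatTrans.mono_of_mono_app _ _ _ _ _ _ _ (fun g => by
          show Mono (φ.app _)
          infer_instance)
      haveI : Mono (colimMap (Functor.whiskerLeft (discIncl f V) (Φ.map φ))) :=
        (colim : (Discrete (Lifts f V) ⥤ AddCommGrpCat.{u}) ⥤ _).map_mono _
      have h2 : Mono ((colim : (CostructuredArrow (Over.map f).op (op V) ⥤ AddCommGrpCat.{u}) ⥤ _).map (Φ.map φ)) :=
        SiteCoh.OverExact.mono_map_of_natIso (Functor.Final.colimIso (discIncl f V) (E := AddCommGrpCat.{u})) (Φ.map φ)
          (show Mono (colimMap (Functor.whiskerLeft (discIncl f V) (Φ.map φ))) from inferInstance)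
      exact SiteCoh.OverExact.mono_map_of_natIso e.symm φ h2
    exact NatTrans.mono_of_mono_app _

variable (J : GrothendieckTopology C)

/-- restriction of abelian sheaves along `f` -/
noncomputable abbrev restr : Sheaf (J.over Y) AddCommGrpCat.{u} ⥤ Sheaf (J.over X) AddCommGrpCat.{u} :=
  (Over.map f).sheafPushforwardContinuous AddCommGrpCat.{u} (J.over X) (J.over Y)

/-- the direct image along `f` -/
noncomputable abbrev rpush : Sheaf (J.over X) AddCommGrpCat.{u} ⥤ Sheaf (J.over Y) AddCommGrpCat.{u} :=
  (Over.map f).sheafPushforwardCocontinuous AddCommGrpCat.{u} (J.over X) (J.over Y)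

/-- the adjunction -/
noncomputable abbrev restrAdj : restr f J ⊣ rpush f J :=
  (Over.map f).sheafAdjunctionCocontinuous AddCommGrpCat.{u} (J.over X) (J.over Y)

instance additive_rpush : (rpush f J).Additive := (restrAdj f J).right_adjoint_additive

instance preservesFiniteColimits_restr : PreservesFiniteColimits (restr f J) :=
  haveI := (restrAdj f J).leftAdjoint_preservesColimits
  PreservesColimitsOfSize.preservesFiniteColimits.{u, u} _

instance preservesFiniteLimits_restr : PreservesFiniteLimits (restr f J) :=
  haveI := ((Over.map f).sheafAdjunctionContinuous AddCommGrpCat.{u} (J.over X) (J.over Y)).rightAdjoint_preservesLimits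
  PreservesLimitsOfSize.preservesFiniteLimits.{u, u} _

theorem sheafPullback_map_preservesFiniteLimits :
    PreservesFiniteLimits ((Over.map f).sheafPullback AddCommGrpCat.{u} (J.over X) (J.over Y)) := by
  let adj := (Over.map f).sheafAdjunctionContinuous AddCommGrpCat.{u} (J.over X) (J.over Y)
  haveI := adj.leftAdjoint_preservesColimits
  haveI : (sheafToPresheaf (J.over X) AddCommGrpCat.{u}).PreservesMonomorphisms :=
    Functor.preservesMonomorphisms_of_adjunction (sheafificationAdjunction _ _)
  haveI : (presheafToSheaf (J.over Y) AddCommGrpCat.{u}).PreservesMonomorphisms :=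
    preservesMonomorphisms_of_preservesLimitsOfShape _
  haveI : (Functor.sheafPullbackConstruction.sheafPullback (Over.map f) AddCommGrpCat.{u} (J.over X) (J.over Y)).PreservesMonomorphisms := by
    unfold Functor.sheafPullbackConstruction.sheafPullback
    infer_instance
  haveI : ((Over.map f).sheafPullback AddCommGrpCat.{u} (J.over X) (J.over Y)).PreservesMonomorphisms :=
    Functor.PreservesMonomorphisms.of_iso
      (Functor.sheafPullbackConstruction.sheafPullbackIso (Over.map f) AddCommGrpCat.{u} (J.over X) (J.over Y)).symm
  exact Groth.Agent.SiteBase.preservesFiniteLimits_of_preservesMono _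

/-- restriction preserves K-injective complexes -/
theorem isKInjective_restr (I : CochainComplex (Sheaf (J.over Y) AddCommGrpCat.{u}) ℤ) [I.IsKInjective] :
    CochainComplex.IsKInjective (((restr f J).mapHomologicalComplex (ComplexShape.up ℤ)).obj I) := by
  let adj := (Over.map f).sheafAdjunctionContinuous AddCommGrpCat.{u} (J.over X) (J.over Y)
  haveI := sheafPullback_map_preservesFiniteLimits f J
  haveI := adj.leftAdjoint_preservesColimits
  haveI : PreservesFiniteColimits ((Over.map f).sheafPullback AddCommGrpCat.{u} (J.over X) (J.over Y)) :=
    PreservesColimitsOfSize.preservesFiniteColimits.{u, u} _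
  haveI : ((Over.map f).sheafPullback AddCommGrpCat.{u} (J.over X) (J.over Y)).Additive := adj.left_adjoint_additive
  exact DerCat.isKInjective_map_rightAdjoint adj I

end Groth.Agent.CmpTop
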