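import Groth.Prelude.Def_SiteCmp
import Mathlib.CategoryTheory.Sites.LocallyInjective
import Mathlib.CategoryTheory.Sites.Abelian
import Mathlib.CategoryTheory.Adjunction.Restrict
import Mathlib.CategoryTheory.Adjunction.FullyFaithful

/-! # Sheafification from a coarser topology -/

set_option autoImplicit false
set_option linter.all false
set_option backward.isDefEq.respectTransparency false
set_option backward.defeqAttrib.useBackward true

universe u

open CategoryTheory CategoryTheory.Limits Opposite

namespace Groth.Agent.CmpTop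

variable {E : Type u} [SmallCategory E] {K K' : GrothendieckTopology E} (h : K' ≤ K)

/-- abelian sheaves -/
abbrev Ab (K : GrothendieckTopology E) := Sheaf K AddCommGrpCat.{u}

/-- a `K`-sheaf regarded as a `K'`-sheaf -/
noncomputable abbrev eps : Ab K ⥤ Ab K' := SiteCmp.epsSh h AddCommGrpCat.{u}

/-- `K`-sheafification of `K'`-sheaves -/
noncomputable abbrev shfy (K K' : GrothendieckTopology E) : Ab K' ⥤ Ab K :=
  sheafToPresheaf K' AddCommGrpCat.{u} ⋙ presheafToSheaf K AddCommGrpCat.{u}

/-- `eps` does not change the presheaf -/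
noncomputable def epsPreIso :
    sheafToPresheaf K AddCommGrpCat.{u} ≅ eps h ⋙ sheafToPresheaf K' AddCommGrpCat.{u} :=
  NatIso.ofComponents (fun F => NatIso.ofComponents (fun U => Iso.refl _))

/-- the adjunction -/
noncomputable def shfyAdj : shfy K K' ⊣ eps h :=
  (sheafificationAdjunction K AddCommGrpCat.{u}).restrictFullyFaithful
    (fullyFaithfulSheafToPresheaf K' AddCommGrpCat.{u}) (.id _)
    (Functor.rightUnitor _).symm ((Functor.leftUnitor _) ≪≫ epsPreIso h)

instance additive_eps : (eps h).Additive := (shfyAdj h).right_adjoint_additive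

instance additive_shfy : (shfy K K').Additive := by
  haveI : (presheafToSheaf K AddCommGrpCat.{u}).Additive :=
    (sheafificationAdjunction K AddCommGrpCat.{u}).left_adjoint_additive
  infer_instance

instance preservesFiniteLimits_shfy : PreservesFiniteLimits (shfy K K') :=
  comp_preservesFiniteLimits _ _

theorem preservesFiniteColimits_shfy (h : K' ≤ K) : PreservesFiniteColimits (shfy K K') :=
  haveI := (shfyAdj h).leftAdjoint_preservesColimits
  PreservesColimitsOfSize.preservesFiniteColimits.{u, u} _

theorem eps_full : (eps h).Full where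
  map_surjective {F G} g := by
    refine ⟨⟨{ app := fun U => g.hom.app U, naturality := fun U V k => g.hom.naturality k }⟩, ?_⟩
    ext U x
    rfl

theorem eps_faithful : (eps h).Faithful where
  map_injective {F G} a b e := by
    ext U x
    exact congrArg (fun t => t.hom.app U x) e

theorem isIso_shfy_counit (F : Ab K) : IsIso ((shfyAdj h).counit.app F) := by
  haveI := eps_full h
  haveI := eps_faithful h
  infer_instance

lemma eq_zero_of_locally_zero (G : Ab K) {U : E} (x : G.obj.obj (op U)) (S : Sieve U) (hS : S ∈ K U)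
    (hx : ∀ ⦃V : E⦄ (g : V ⟶ U), S g → G.obj.map g.op x = 0) : x = 0 :=
  ((((Presheaf.isSheaf_iff_isSheaf_forget K G.obj (CategoryTheory.forget AddCommGrpCat.{u})).1 G.property) |>
    (isSheaf_iff_isSheaf_of_type _ _).1).isSeparated S hS).ext fun V g hg =>
      (hx g hg).trans (map_zero (G.obj.map g.op).hom).symm

/-- locally zero sheaves have zero sheafification -/
theorem isZero_shfy_of (h : K' ≤ K) (M : Ab K') (hM : ∀ (U : E) (s : M.obj.obj (op U)),
    ∃ S ∈ K U, ∀ ⦃V : E⦄ (g : V ⟶ U), S g → M.obj.map g.op s = 0) : IsZero ((shfy K K').obj M) := by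
  rw [IsZero.iff_id_eq_zero]
  apply ((shfyAdj h).homEquiv _ _).injective
  generalize ((shfyAdj h).homEquiv M _) (0 : (shfy K K').obj M ⟶ (shfy K K').obj M) = b
  generalize ((shfyAdj h).homEquiv M _) (𝟙 ((shfy K K').obj M)) = a
  have hz : ∀ c : M ⟶ (eps h).obj ((shfy K K').obj M), c = 0 := fun c => by
    ext U s
    obtain ⟨S, hS, hs⟩ := hM U.unop s
    refine eq_zero_of_locally_zero ((shfy K K').obj M) _ S hS fun V g hg => ?_
    refine (ConcreteCategory.congr_hom (c.hom.naturality g.op) s).symm.trans ?_
    show c.hom.app (op V) (M.obj.map g.op s) = 0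
    rw [hs g hg, map_zero]
  rw [hz a, hz b]

/-- zero sheafification: locally zero -/
theorem locally_zero_of_isZero_shfy (M : Ab K') (hM : IsZero ((shfy K K').obj M)) (U : E)
    (s : M.obj.obj (op U)) : ∃ S ∈ K U, ∀ ⦃V : E⦄ (g : V ⟶ U), S g → M.obj.map g.op s = 0 := by
  have hzero : IsZero (((shfy K K').obj M).obj.obj (op U)) :=
    Functor.map_isZero (sheafToPresheaf K AddCommGrpCat.{u} ⋙ (evaluation _ _).obj (op U)) hM
  have he : (toSheafify K M.obj).app (op U) s = (toSheafify K M.obj).app (op U) 0 :=
    @Subsingleton.elim _ (AddCommGrpCat.subsingleton_of_isZero hzero) _ _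
  refine ⟨_, Presheaf.equalizerSieve_mem K (toSheafify K M.obj) (X := op U) s 0 he, fun V g hg => ?_⟩
  exact hg.trans (map_zero _)

/-- the unit is invertible on `K`-sheaves -/
theorem isIso_shfy_unit (M : Ab K') (hM : Presheaf.IsSheaf K M.obj) : IsIso ((shfyAdj h).unit.app M) := by
  haveI := isIso_shfy_counit h
  let G : Ab K := ⟨M.obj, hM⟩
  let e : (eps h).obj G ≅ M := (fullyFaithfulSheafToPresheaf K' AddCommGrpCat.{u}).preimageIso
    ((epsPreIso h).symm.app G)
  haveI : IsIso ((eps h).map ((shfyAdj h).counit.app G)) := Functor.map_isIso _ _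
  haveI : IsIso ((shfyAdj h).unit.app ((eps h).obj G)) := by
    have t := (shfyAdj h).right_triangle_components G
    rw [(IsIso.eq_comp_inv _).2 t]
    exact @IsIso.comp_isIso _ _ _ _ _ _ _ ⟨⟨𝟙 _, Category.id_comp _, Category.id_comp _⟩⟩ inferInstance
  exact (NatTrans.isIso_app_iff_of_iso (shfyAdj h).unit e).1 inferInstance

theorem isSheaf_eps_obj (F : Ab K) : Presheaf.IsSheaf K ((eps h).obj F).obj :=
  (Presheaf.isSheaf_of_iso_iff ((epsPreIso h).app F)).1 F.property

end Groth.Agent.CmpTop
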