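import Groth.Agent.CmpTop.Orth
import Groth.Agent.CmpTop.Shfy
import Groth.Agent.CmpTop.MapExact
import Mathlib.Algebra.Category.Grp.Limits

/-! # The direct image to a coarser topology, in the derived category, and its restrictions -/

set_option autoImplicit false
set_option linter.all false
set_option backward.isDefEq.respectTransparency false
set_option backward.defeqAttrib.useBackward true

universe u

open CategoryTheory CategoryTheory.Limits Opposite DerivedCategory

attribute [local instance] HasDerivedCategory.standard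

namespace Groth.Agent.CmpTop

variable {E : Type u} [SmallCategory E] {K K' : GrothendieckTopology E}

/-- `K'`-sheaves with zero `K`-sheafification -/
def locZero (K K' : GrothendieckTopology E) : ObjectProperty (Ab K') := fun N => IsZero ((shfy K K').obj N)

variable (h : K' ≤ K)
include h

theorem locZero_of_mono {N M : Ab K'} (ι : N ⟶ M) [Mono ι] (hM : locZero K K' M) : locZero K K' N := by
  haveI := (preservesFiniteLimits_shfy (K := K) (K' := K'))
  haveI : Mono ((shfy K K').map ι) := inferInstance
  exact IsZero.of_mono ((shfy K K').map ι) hM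

theorem orth_of_isKInjective (J : CochainComplex (Ab K) ℤ) [J.IsKInjective] :
    Orth (locZero K K') (Q.obj (((eps h).mapHomologicalComplex (ComplexShape.up ℤ)).obj J)) := fun a N hN φ => by
  haveI := preservesFiniteColimits_shfy h
  haveI : CochainComplex.IsKInjective (((eps h).mapHomologicalComplex (ComplexShape.up ℤ)).obj J) :=
    DerCat.isKInjective_map_rightAdjoint (shfyAdj h) J
  let X := (HomologicalComplex.single (Ab K') (ComplexShape.up ℤ) a).obj N
  let e₁ := ((singleFunctorIsoCompQ (Ab K') a).app N)
  let Y := ((eps h).mapHomologicalComplex (ComplexShape.up ℤ)).obj J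
  obtain ⟨ψ, hψ⟩ := (CochainComplex.IsKInjective.Qh_map_bijective ((HomotopyCategory.quotient _ _).obj X) Y).2
    ((quotientCompQhIso (Ab K')).hom.app X ≫ e₁.inv ≫ φ ≫ (quotientCompQhIso (Ab K')).inv.app Y)
  obtain ⟨c, rfl⟩ := (HomotopyCategory.quotient _ _).map_surjective ψ
  have hc : c = 0 := by
    refine HomologicalComplex.from_single_hom_ext ?_
    rw [HomologicalComplex.zero_f]
    rw [← cancel_epi (HomologicalComplex.singleObjXSelf (ComplexShape.up ℤ) a N).inv, comp_zero]
    apply ((shfyAdj h).homEquiv N (J.X a)).symm.injective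
    exact hN.eq_of_src _ _
  rw [hc, Functor.map_zero, Functor.map_zero] at hψ
  rw [← cancel_epi e₁.inv, comp_zero, ← cancel_mono ((quotientCompQhIso (Ab K')).inv.app Y), zero_comp,
    ← cancel_epi ((quotientCompQhIso (Ab K')).hom.app X), comp_zero, Category.assoc]
  exact hψ.symm

/-- `Rε F` -/
noncomputable def Tobj (F : Ab K) : DerivedCategory (Ab K') :=
  Q.obj (((eps h).mapHomologicalComplex (ComplexShape.up ℤ)).obj (injectiveResolution F).cochainComplex)

theorem orth_Tobj (F : Ab K) : Orth (locZero K K') (Tobj h F) :=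
  haveI : CochainComplex.IsKInjective (injectiveResolution F).cochainComplex :=
    CochainComplex.isKInjective_of_injective _ 0
  orth_of_isKInjective h _

theorem isGE_Tobj (F : Ab K) : (Tobj h F).IsGE 0 := by
  unfold Tobj
  infer_instance

theorem nonempty_homology_Tobj (F : Ab K) (p : ℕ) :
    Nonempty ((homologyFunctor (Ab K') (p : ℤ)).obj (Tobj h F) ≅ ((eps h).rightDerived p).obj F) :=
  ⟨(homologyFunctorFactors (Ab K') (p : ℤ)).app _ ≪≫
    HomologicalComplex.homologyMapIso (GrothSS.mapExtendIso (eps h) (injectiveResolution F).cocomplex) _ ≪≫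
    HomologicalComplex.extendHomologyIso _ ComplexShape.embeddingUpNat (j := p) rfl ≪≫
    ((injectiveResolution F).isoRightDerivedObj (eps h) p).symm⟩

theorem nonempty_homology_Tobj_zero (F : Ab K) :
    Nonempty ((homologyFunctor (Ab K') 0).obj (Tobj h F) ≅ (eps h).obj F) := by
  haveI : PreservesFiniteLimits (eps h) :=
    haveI := (shfyAdj h).rightAdjoint_preservesLimits
    PreservesLimitsOfSize.preservesFiniteLimits.{u, u} _
  obtain ⟨e⟩ := nonempty_homology_Tobj h F 0
  exact ⟨e ≪≫ (eps h).rightDerivedZeroIsoSelf.app F⟩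

/-- `L H^i(εJ) = H^i(J)` -/
theorem nonempty_shfy_homology (J : CochainComplex (Ab K) ℤ) (i : ℤ) :
    Nonempty ((shfy K K').obj ((((eps h).mapHomologicalComplex (ComplexShape.up ℤ)).obj J).homology i) ≅ J.homology i) := by
  haveI := preservesFiniteColimits_shfy h
  haveI := isIso_shfy_counit h
  haveI : IsIso (shfyAdj h).counit := NatIso.isIso_of_isIso_app _
  exact ⟨(((((eps h).mapHomologicalComplex (ComplexShape.up ℤ)).obj J).sc i).mapHomologyIso (shfy K K')).symm ≪≫
    HomologicalComplex.homologyMapIso ((NatIso.mapHomologicalComplex (asIso (shfyAdj h).counit) (ComplexShape.up ℤ)).app J) i⟩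

theorem locZero_homology_Tobj (F : Ab K) (i : ℤ) (hi : i ≠ 0) :
    locZero K K' ((homologyFunctor (Ab K') i).obj (Tobj h F)) := by
  obtain ⟨e⟩ := nonempty_shfy_homology h (injectiveResolution F).cochainComplex i
  refine IsZero.of_iso ?_ ((shfy K K').mapIso ((homologyFunctorFactors (Ab K') i).app _) ≪≫ e ≪≫
    (HomologicalComplex.homologyFunctor _ _ i).mapIso (Iso.refl _))
  have : QuasiIso (injectiveResolution F).ι' := inferInstance
  refine IsZero.of_iso ?_ (@asIso _ _ _ _ (HomologicalComplex.homologyMap (injectiveResolution F).ι' i) ((quasiIsoAt_iff_isIso_homologyMap _ _).1 (this.quasiIsoAt i))).symm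
  exact HomologicalComplex.isZero_single_obj_homology (ComplexShape.up ℤ) 0 F i hi

/-- `V_n`-vanishing gives Ext vanishing into `ε G` -/
theorem van_eps (F : Ab K) (n : ℕ) (hF : ∀ i : ℕ, 1 ≤ i → i ≤ n → IsZero (((eps h).rightDerived i).obj F)) :
    Van (locZero K K') ((eps h).obj F) ((n : ℤ) + 1) := by
  obtain ⟨e⟩ := nonempty_homology_Tobj_zero h F
  haveI := isGE_Tobj h F
  refine van_of_orth (Tobj h F) n (fun i h1 h2 => ?_) (orth_Tobj h F) e
  obtain ⟨p, rfl⟩ : ∃ p : ℕ, i = p := ⟨i.toNat, by omega⟩
  exact (hF p (by omega) (by omega)).of_iso (nonempty_homology_Tobj h F p).some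

end Groth.Agent.CmpTop
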