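import Groth.Agent.CmpTop.Proj
import Groth.Agent.CmpTop.Shfy
import Groth.Prelude.Def_SiteCmp
import Groth.Prelude.Def_CohSite
import Groth.Prelude.Def_WeakSerre
import Mathlib.CategoryTheory.Abelian.Injective.Ext

/-! # Equalized classes are locally zero -/

set_option autoImplicit false
set_option linter.all false
set_option backward.isDefEq.respectTransparency false
set_option backward.defeqAttrib.useBackward true

universe u

open CategoryTheory CategoryTheory.Limits Opposite CategoryTheory.Abelian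

namespace Groth.Agent.CmpTop

variable {C : Type u} [SmallCategory C] {J J' : GrothendieckTopology C} (h : J' ≤ J)

section Classes

variable {E : Type u} [SmallCategory E] {K : GrothendieckTopology E} {F : Sheaf K AddCommGrpCat.{u}}
  (R : InjectiveResolution F) (k : ℕ)

/-- the class of a cocycle of sections -/
noncomputable def clsOf {U : E} (z : (R.cocomplex.X (k + 1)).obj.obj (op U))
    (hz : (R.cocomplex.d (k + 1) (k + 2)).hom.app (op U) z = 0) : CohSite.HU F (k + 1) U :=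
  R.extMk ((CohAcyc.secEquiv' U _).symm z) (k + 2) rfl (by
    apply (CohAcyc.secEquiv' U (R.cocomplex.X (k + 2))).injective
    rw [CohAcyc.secEquiv'_comp, Equiv.apply_symm_apply, hz]
    have e := CohAcyc.secEquiv'_comp U (0 : CohCx.freeSheaf K U ⟶ F) (0 : F ⟶ R.cocomplex.X (k + 2))
    rw [zero_comp] at e
    exact e.trans (by simp) |>.symm)

theorem exists_clsOf {U : E} (θ : CohSite.HU F (k + 1) U) :
    ∃ z hz, clsOf R k (U := U) z hz = θ := by
  obtain ⟨φ, hφ, e⟩ := R.extMk_surjective (X := CohCx.freeSheaf K U) θ (k + 2) rfl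
  refine ⟨CohAcyc.secEquiv' U _ φ, ?_, ?_⟩
  · rw [← CohAcyc.secEquiv'_comp, hφ]
    have e' := CohAcyc.secEquiv'_comp U (0 : CohCx.freeSheaf K U ⟶ F) (0 : F ⟶ R.cocomplex.X (k + 2))
    rw [zero_comp] at e'
    exact e'.trans (by simp)
  · unfold clsOf
    simp only [Equiv.symm_apply_apply]
    exact e

lemma res_clsOf {U V : E} (g : V ⟶ U) (z : (R.cocomplex.X (k + 1)).obj.obj (op U))
    (hz : (R.cocomplex.d (k + 1) (k + 2)).hom.app (op U) z = 0) :
    ∃ hz', CohSite.res F (k + 1) g (clsOf R k z hz) = clsOf R k ((R.cocomplex.X (k + 1)).obj.map g.op z) hz' := by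
  have hz' : (R.cocomplex.d (k + 1) (k + 2)).hom.app (op V) ((R.cocomplex.X (k + 1)).obj.map g.op z) = 0 :=
    (ConcreteCategory.congr_hom ((R.cocomplex.d (k + 1) (k + 2)).hom.naturality g.op) z).trans
      ((congrArg _ hz).trans (map_zero ((R.cocomplex.X (k + 2)).obj.map g.op).hom))
  refine ⟨hz', ?_⟩
  show (Ext.mk₀ (CohAcyc.freeMap g)).comp (clsOf R k z hz) (zero_add _) = _
  unfold clsOf
  rw [R.mk₀_comp_extMk]
  congr 1
  apply (CohAcyc.secEquiv' V _).injective
  rw [CohAcyc.secEquiv'_naturality, Equiv.apply_symm_apply, Equiv.apply_symm_apply]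

lemma clsOf_eq_zero_iff {U : E} (z : (R.cocomplex.X (k + 1)).obj.obj (op U))
    (hz : (R.cocomplex.d (k + 1) (k + 2)).hom.app (op U) z = 0) :
    clsOf R k z hz = 0 ↔ ∃ w, (R.cocomplex.d k (k + 1)).hom.app (op U) w = z := by
  refine (R.extMk_eq_zero_iff _ (k + 2) rfl _ k rfl).trans ⟨?_, ?_⟩
  · rintro ⟨g, hg⟩
    refine ⟨CohAcyc.secEquiv' U _ g, ?_⟩
    rw [← CohAcyc.secEquiv'_comp, hg, Equiv.apply_symm_apply]
  · rintro ⟨w, hw⟩
    refine ⟨(CohAcyc.secEquiv' U _).symm w, ?_⟩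
    apply (CohAcyc.secEquiv' U _).injective
    rw [CohAcyc.secEquiv'_comp, Equiv.apply_symm_apply, Equiv.apply_symm_apply, hw]

lemma clsOf_eq_iff {U : E} (z z' : (R.cocomplex.X (k + 1)).obj.obj (op U))
    (hz : (R.cocomplex.d (k + 1) (k + 2)).hom.app (op U) z = 0)
    (hz' : (R.cocomplex.d (k + 1) (k + 2)).hom.app (op U) z' = 0) :
    clsOf R k z hz = clsOf R k z' hz' ↔ ∃ w, (R.cocomplex.d k (k + 1)).hom.app (op U) w = z - z' := by
  have hs : (R.cocomplex.d (k + 1) (k + 2)).hom.app (op U) (z - z') = 0 := by rw [map_sub, hz, hz', sub_zero]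
  rw [← clsOf_eq_zero_iff R k (z - z') hs, ← sub_eq_zero]
  unfold clsOf
  rw [R.sub_extMk]
  have : ∀ (φ ψ : CohCx.freeSheaf K U ⟶ R.cocomplex.X (k + 1)),
      CohAcyc.secEquiv' U _ (φ - ψ) = CohAcyc.secEquiv' U _ φ - CohAcyc.secEquiv' U _ ψ := fun φ ψ => by
    have h2 := CohAcyc.secEquiv'_comp U (biprod.lift φ ψ) (biprod.fst - biprod.snd)
    rw [Preadditive.comp_sub, biprod.lift_fst, biprod.lift_snd] at h2
    have ha := CohAcyc.secEquiv'_comp U (biprod.lift φ ψ) biprod.fst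
    rw [biprod.lift_fst] at ha
    have hb := CohAcyc.secEquiv'_comp U (biprod.lift φ ψ) biprod.snd
    rw [biprod.lift_snd] at hb
    rw [h2, ha, hb]
    rfl
  have e : (CohAcyc.secEquiv' U (R.cocomplex.X (k + 1))).symm (z - z') =
      (CohAcyc.secEquiv' U _).symm z - (CohAcyc.secEquiv' U _).symm z' := by
    apply (CohAcyc.secEquiv' U _).injective
    rw [this, Equiv.apply_symm_apply, Equiv.apply_symm_apply, Equiv.apply_symm_apply]
  simp only [e]

end Classes

include h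

theorem exists_cover_killing (P : MorphismProperty C)
    (A' : ∀ X : C, ObjectProperty (Sheaf (J'.over X) AddCommGrpCat.{u})) [∀ X : C, WSerre.IsWeakSerre (A' X)]
    (h1 : ∀ ⦃X Y : C⦄ (f : X ⟶ Y), P f → ∀ ⦃Y' : C⦄ (g : Y' ⟶ Y),
      ∃ (W : C) (p : W ⟶ Y') (q : W ⟶ X), IsPullback p q g f ∧ P p)
    (h3 : ∀ (X : C) (F' : Sheaf (J'.over X) AddCommGrpCat.{u}), A' X F' → Presheaf.IsSheaf (J.over X) F'.obj)
    {X Y : C} (f : X ⟶ Y) (hf : P f) (hcov : Sieve.ofArrows (fun _ : PUnit.{u + 1} => X) (fun _ => f) ∈ J Y)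
    (F' : Sheaf (J'.over Y) AddCommGrpCat.{u}) (n : ℕ)
    (hR : A' Y (((rpush f J').rightDerived (n + 1)).obj ((restr f J').obj F')))
    (θ : CohSite.HU F' (n + 1) (Over.mk f))
    (hθ : ∀ (W : C) (p q : W ⟶ X) (hW : IsPullback p q f f),
      CohSite.res F' (n + 1) (Over.homMk p rfl : Over.mk (p ≫ f) ⟶ Over.mk f) θ =
        CohSite.res F' (n + 1) (Over.homMk q hW.w.symm : Over.mk (p ≫ f) ⟶ Over.mk f) θ) :
    ∃ (ι : Type u) (Z : ι → C) (g : ∀ i, Z i ⟶ Y), Sieve.ofArrows Z g ∈ J' Y ∧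
      ∀ (i : ι) (W : C) (p : W ⟶ Z i) (q : W ⟶ X), IsPullback p q (g i) f →
        CohSite.res F' (n + 1) (Over.homMk q rfl : Over.mk (q ≫ f) ⟶ Over.mk f) θ = 0 := by
  let R := injectiveResolution F'
  obtain ⟨z, hz, rfl⟩ := exists_clsOf R n θ
  let N := n + 1
  let dI := R.cocomplex.d
  let B := ((rr f J').mapHomologicalComplex (ComplexShape.up ℕ)).obj R.cocomplex
  let Sc := B.sc' n (n + 1) (n + 2)
  let idY : Over Y := Over.mk (𝟙 Y)
  let k₀ : (Over.map f).obj (Over.mk (𝟙 X)) ⟶ idY :=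
    Over.homMk f (show f ≫ 𝟙 Y = 𝟙 X ≫ f by simp)
  have hk₀ : ∀ (U : Over X) (l : (Over.map f).obj U ⟶ idY), ∃! a : U ⟶ Over.mk (𝟙 X), (Over.map f).map a ≫ k₀ = l := by
    intro U l
    refine ⟨Over.homMk U.hom (Category.comp_id _), Over.OverMorphism.ext ?_, fun a _ => Over.OverMorphism.ext ?_⟩
    · exact ((Category.comp_id _).symm.trans (Over.w l)).symm
    · exact (Category.comp_id _).symm.trans (Over.w a)
  let e₁ : (Over.map f).obj (Over.mk (𝟙 X)) ⟶ Over.mk f := Over.homMk (𝟙 X) rfl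
  obtain ⟨b, hb⟩ := (bijective_proj k₀ hk₀ (R.cocomplex.X (n + 1))).2 ((R.cocomplex.X (n + 1)).obj.map e₁.op z)
  have hbd : Sc.g.hom.app (op idY) b = 0 := by
    apply (bijective_proj k₀ hk₀ (R.cocomplex.X (n + 2))).1
    refine (proj_hom k₀ (dI (n + 1) (n + 2)) b).trans ?_
    rw [hb]
    refine ((ConcreteCategory.congr_hom ((dI (n + 1) (n + 2)).hom.naturality e₁.op) z).trans ?_).trans (map_zero _).symm
    exact (congrArg _ hz).trans (map_zero ((R.cocomplex.X (n + 2)).obj.map e₁.op).hom)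
  have hval : ∀ {W : Over X} {Z : Over Y} (k : (Over.map f).obj W ⟶ Z) (g : Z ⟶ idY),
      proj k (R.cocomplex.X (n + 1)) (((rr f J').obj (R.cocomplex.X (n + 1))).obj.map g.op b) =
        (R.cocomplex.X (n + 1)).obj.map (Over.homMk W.hom rfl : (Over.map f).obj W ⟶ Over.mk f).op z := by
    intro W Z k g
    rw [proj_map]
    obtain ⟨a, ha, -⟩ := hk₀ W (k ≫ g)
    have haX : a.left = W.hom := (Category.comp_id _).symm.trans (Over.w a)
    have h4 : proj (k ≫ g) (R.cocomplex.X (n + 1)) b =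
        (R.cocomplex.X (n + 1)).obj.map ((Over.map f).map a).op (proj k₀ _ b) := by
      rw [← ha]
      simp only [proj, op_comp, Functor.map_comp, CategoryTheory.comp_apply]
      exact ConcreteCategory.congr_hom
        (((Over.map f).op.ranCounit.app ((restr f J').obj (R.cocomplex.X (n + 1))).obj).naturality a.op) _
    rw [h4, hb, ← CategoryTheory.comp_apply, ← Functor.map_comp, ← op_comp]
    congr 3
    exact congrArg Quiver.Hom.op (Over.OverMorphism.ext ((Category.comp_id _).trans haX))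
  obtain ⟨y, hy⟩ := exists_cycle_section (S := Sc) (U := idY) b hbd
  let H := Sc.homology
  have hH : A' Y H := (A' Y).prop_of_iso
    ((nonempty_homology_rr f J' R (n + 1)).some.symm ≪≫
      ShortComplex.homologyMapIso (B.isoSc' n (n + 1) (n + 2) (by simp) (by simp))) hR
  let β := Sc.homologyπ.hom.app (op idY) y
  have hexact : (ShortComplex.mk Sc.toCycles Sc.homologyπ Sc.toCycles_comp_homologyπ).Exact :=
    ShortComplex.exact_of_g_is_cokernel _ Sc.homologyIsCokernel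
  have hkill : ∀ {Z : Over Y} (g : Z ⟶ idY) (c : Sc.X₁.obj.obj (op Z)),
      Sc.f.hom.app (op Z) c = Sc.X₂.obj.map g.op b → H.obj.map g.op β = 0 := by
    intro Z g c hc
    have hy' : Sc.toCycles.hom.app (op Z) c = Sc.cycles.obj.map g.op y := by
      apply injective_app_of_mono Sc.iCycles
      refine (ConcreteCategory.congr_hom (congr_app (congrArg (fun e => e.hom) Sc.toCycles_i) (op Z)) c).trans (hc.trans ?_)
      rw [← hy]
      exact (ConcreteCategory.congr_hom (Sc.iCycles.hom.naturality g.op) y).symm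
    refine (ConcreteCategory.congr_hom (Sc.homologyπ.hom.naturality g.op) y).symm.trans ?_
    refine (congrArg (Sc.homologyπ.hom.app (op Z)) hy'.symm).trans ?_
    exact ConcreteCategory.congr_hom (congr_app (congrArg (fun e => e.hom) Sc.toCycles_comp_homologyπ) (op Z)) c
  have hβ : β = 0 := by
    let G : Sheaf (J.over Y) AddCommGrpCat.{u} := ⟨H.obj, h3 Y H hH⟩
    let m : Over.mk f ⟶ idY := Over.homMk f (Category.comp_id _)
    let S₁ : Sieve idY := Sieve.ofArrows (fun _ : PUnit.{u + 1} => Over.mk f) (fun _ => m)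
    have hS₁ : S₁ ∈ (J.over Y) idY := by
      rw [GrothendieckTopology.mem_over_iff, Sieve.overEquiv_ofArrows]
      exact hcov
    refine eq_zero_of_locally_zero G β S₁ hS₁ fun V v hv => ?_
    obtain ⟨⟨⟩, v', rfl⟩ := (Sieve.mem_ofArrows_iff _ _ _).1 hv
    rw [op_comp, Functor.map_comp, CategoryTheory.comp_apply]
    suffices hm : H.obj.map m.op β = 0 from (congrArg _ hm).trans (map_zero _)
    obtain ⟨S₀, hS₀, hlift⟩ := exists_local_lift (S := ShortComplex.mk _ _ (R.cocomplex.d_comp_d n (n + 1) (n + 2)))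
      (R.exact_succ n) z hz
    refine eq_zero_of_locally_zero H _ S₀ hS₀ fun U a ha => ?_
    rw [← CategoryTheory.comp_apply, ← Functor.map_comp, ← op_comp]
    obtain ⟨w, hw⟩ := hlift a ha
    obtain ⟨W, p, q, hW, -⟩ := h1 f hf U.hom
    obtain ⟨W₂, p₂, q₂, hW₂, -⟩ := h1 f hf f
    obtain ⟨hp, hep⟩ := res_clsOf R n (Over.homMk p₂ rfl : Over.mk (p₂ ≫ f) ⟶ Over.mk f) z hz
    obtain ⟨hq, heq⟩ := res_clsOf R n (Over.homMk q₂ hW₂.w.symm : Over.mk (p₂ ≫ f) ⟶ Over.mk f) z hz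
    obtain ⟨w₂, hw₂⟩ := (clsOf_eq_iff R n _ _ hp hq).1 (hep.symm.trans ((hθ W₂ p₂ q₂ hW₂).trans heq))
    have hU : a.left ≫ f = U.hom := Over.w a
    let Wo := (Over.map f).obj (Over.mk q)
    let k : Wo ⟶ U := Over.homMk p hW.w
    let r : W ⟶ W₂ := hW₂.lift (p ≫ a.left) q (by rw [Category.assoc, hU]; exact hW.w)
    let r' : Wo ⟶ Over.mk (p₂ ≫ f) := Over.homMk r (by
      show r ≫ p₂ ≫ f = q ≫ f
      rw [IsPullback.lift_fst_assoc, Category.assoc, hU]; exact hW.w)
    obtain ⟨c, hc⟩ := (bijective_proj k (existsUnique_of_isPullback hW) (R.cocomplex.X n)).2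
      ((R.cocomplex.X n).obj.map k.op w - (R.cocomplex.X n).obj.map r'.op w₂)
    refine hkill (a ≫ m) c ?_
    apply (bijective_proj k (existsUnique_of_isPullback hW) (R.cocomplex.X (n + 1))).1
    refine (proj_hom k (dI n (n + 1)) c).trans ?_
    rw [hc, map_sub]
    refine Eq.trans ?_ (hval k (a ≫ m)).symm
    have e1 : (dI n (n + 1)).hom.app (op Wo) ((R.cocomplex.X n).obj.map k.op w) =
        (R.cocomplex.X (n + 1)).obj.map (k ≫ a).op z := by
      refine (ConcreteCategory.congr_hom ((dI n (n + 1)).hom.naturality k.op) w).trans ?_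
      rw [op_comp, Functor.map_comp]
      exact congrArg _ hw
    have e2 : (dI n (n + 1)).hom.app (op Wo) ((R.cocomplex.X n).obj.map r'.op w₂) =
        (R.cocomplex.X (n + 1)).obj.map (r' ≫ (Over.homMk p₂ rfl : Over.mk (p₂ ≫ f) ⟶ Over.mk f)).op z -
          (R.cocomplex.X (n + 1)).obj.map (r' ≫ (Over.homMk q₂ hW₂.w.symm : Over.mk (p₂ ≫ f) ⟶ Over.mk f)).op z := by
      refine (ConcreteCategory.congr_hom ((dI n (n + 1)).hom.naturality r'.op) w₂).trans ?_
      rw [op_comp, op_comp, Functor.map_comp, Functor.map_comp]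
      exact (congrArg _ hw₂).trans (map_sub ((R.cocomplex.X (n + 1)).obj.map r'.op).hom _ _)
    rw [e1, e2]
    have i1 : r' ≫ (Over.homMk p₂ rfl : Over.mk (p₂ ≫ f) ⟶ Over.mk f) = k ≫ a :=
      Over.OverMorphism.ext (hW₂.lift_fst _ _ _)
    have i2 : r' ≫ (Over.homMk q₂ hW₂.w.symm : Over.mk (p₂ ≫ f) ⟶ Over.mk f) =
        (Over.homMk (Over.mk q).hom rfl : Wo ⟶ Over.mk f) :=
      Over.OverMorphism.ext (hW₂.lift_snd _ _ _)
    rw [i1, i2, sub_sub_cancel]
  obtain ⟨S, hS, hl⟩ := exists_local_lift hexact y hβ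
  refine ⟨Σ (Z : Over Y), {g : Z ⟶ idY // S g}, fun i => i.1.left, fun i => i.1.hom, ?_, fun i W p q hW => ?_⟩
  · refine J'.superset_covering ?_ ((J'.mem_over_iff S).1 hS)
    intro V v hv
    let Z₀ : Over Y := Over.mk (v ≫ 𝟙 Y)
    have h2 : S (Over.homMk v : Z₀ ⟶ idY) := (Sieve.overEquiv_iff S v).1 hv
    exact (Sieve.mem_ofArrows_iff _ _ _).2 ⟨⟨Z₀, ⟨_, h2⟩⟩, 𝟙 _, by simp [Z₀]⟩
  · obtain ⟨Z, g, hg⟩ := i
    obtain ⟨c, hc⟩ := hl g hg
    obtain ⟨hz', he⟩ := res_clsOf R n (Over.homMk q rfl : Over.mk (q ≫ f) ⟶ Over.mk f) z hz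
    rw [he, clsOf_eq_zero_iff]
    let k : (Over.map f).obj (Over.mk q) ⟶ Z := Over.homMk p hW.w
    refine ⟨proj k (R.cocomplex.X n) c, ?_⟩
    refine (proj_hom k (dI n (n + 1)) c).symm.trans ?_
    refine Eq.trans ?_ (hval k g)
    refine congrArg (proj k (R.cocomplex.X (n + 1))) ?_
    refine (ConcreteCategory.congr_hom (congr_app (congrArg (fun e => e.hom) Sc.toCycles_i) (op Z)) c).symm.trans ?_
    refine (congrArg (Sc.iCycles.hom.app (op Z)) hc).trans ?_
    refine (ConcreteCategory.congr_hom (Sc.iCycles.hom.naturality g.op) y).trans ?_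
    exact congrArg _ hy

end Groth.Agent.CmpTop
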