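import Groth.Agent.CmpTop.Eps
import Groth.Agent.SiteDer.Adj
import Groth.Agent.SiteDer.KInjPush
import Groth.Prelude.Def_CohSite

/-! # Injectivity of the unit of relocalisation on locally zero cohomology sheaves -/

set_option autoImplicit false
set_option linter.all false
set_option backward.isDefEq.respectTransparency false
set_option backward.defeqAttrib.useBackward true

universe u

open CategoryTheory CategoryTheory.Limits Opposite DerivedCategory

attribute [local instance] HasDerivedCategory.standard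

namespace Groth.Agent.CmpTop

variable {C : Type u} [SmallCategory C] {J J' : GrothendieckTopology C} (h : J' ≤ J)
include h

/-- `Zc` on `C/Z` -/
abbrev lz (J J' : GrothendieckTopology C) (Z : C) : ObjectProperty (Sheaf (J'.over Z) AddCommGrpCat.{u}) :=
  locZero (J.over Z) (J'.over Z)

/-- `ε` on `C/Z` -/
noncomputable abbrev epsAt (Z : C) : Sheaf (J.over Z) AddCommGrpCat.{u} ⥤ Sheaf (J'.over Z) AddCommGrpCat.{u} :=
  eps (SiteCmp.over_le h Z)

/-- restriction commutes with `ε` -/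
noncomputable def restrEpsIso {X Y : C} (g : X ⟶ Y) : restr g J ⋙ epsAt h X ≅ epsAt h Y ⋙ restr g J' :=
  NatIso.ofComponents (fun F => (fullyFaithfulSheafToPresheaf (J'.over X) AddCommGrpCat.{u}).preimageIso
    (NatIso.ofComponents (fun U => Iso.refl _)))

/-- `Rε F` restricted along `g` -/
noncomputable def Tres {X Y : C} (g : X ⟶ Y) (F : Sheaf (J.over Y) AddCommGrpCat.{u}) :
    DerivedCategory (Sheaf (J'.over X) AddCommGrpCat.{u}) :=
  (restr g J').mapDerivedCategory.obj (Tobj (SiteCmp.over_le h Y) F)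

theorem isGE_Tres {X Y : C} (g : X ⟶ Y) (F : Sheaf (J.over Y) AddCommGrpCat.{u}) : (Tres h g F).IsGE 0 :=
  haveI := isGE_Tobj (SiteCmp.over_le h Y) F
  SiteDer.isGE_mapDerived _ _ 0

theorem orth_Tres {X Y : C} (g : X ⟶ Y) (F : Sheaf (J.over Y) AddCommGrpCat.{u}) : Orth (lz J J' X) (Tres h g F) := by
  let I := (injectiveResolution F).cochainComplex
  haveI : I.IsKInjective := CochainComplex.isKInjective_of_injective _ 0
  haveI := isKInjective_restr g J I
  have ho := orth_of_isKInjective (SiteCmp.over_le h X) (((restr g J).mapHomologicalComplex (ComplexShape.up ℤ)).obj I)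
  let e : Tres h g F ≅ Q.obj (((epsAt h X).mapHomologicalComplex (ComplexShape.up ℤ)).obj
      (((restr g J).mapHomologicalComplex (ComplexShape.up ℤ)).obj I)) :=
    (restr g J').mapDerivedCategoryFactors.app _ ≪≫
      Q.mapIso ((NatIso.mapHomologicalComplex (restrEpsIso h g) (ComplexShape.up ℤ)).app I).symm
  intro a N hN φ
  rw [← cancel_mono e.hom, zero_comp]
  exact ho a N hN _

variable (A' : ∀ X : C, ObjectProperty (Sheaf (J'.over X) AddCommGrpCat.{u})) [∀ X : C, WSerre.IsWeakSerre (A' X)]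
  (h3 : ∀ (X : C) (F' : Sheaf (J'.over X) AddCommGrpCat.{u}), A' X F' → Presheaf.IsSheaf (J.over X) F'.obj)

/-- `(V_n)` -/
def Vn (n : ℕ) : Prop :=
  ∀ (Z : C) (G : Sheaf (J.over Z) AddCommGrpCat.{u}), A' Z ((SiteCmp.epsSh (SiteCmp.over_le h Z) AddCommGrpCat.{u}).obj G) →
    ∀ i : ℕ, 1 ≤ i → i ≤ n → IsZero (((SiteCmp.epsSh (SiteCmp.over_le h Z) AddCommGrpCat.{u}).rightDerived i).obj G)

include h3

omit [∀ X : C, WSerre.IsWeakSerre (A' X)] in
theorem exists_sheaf_iso (Z : C) (M : Sheaf (J'.over Z) AddCommGrpCat.{u}) (hM : A' Z M) :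
    ∃ G : Sheaf (J.over Z) AddCommGrpCat.{u}, Nonempty ((epsAt h Z).obj G ≅ M) :=
  ⟨⟨M.obj, h3 Z M hM⟩, ⟨(fullyFaithfulSheafToPresheaf (J'.over Z) AddCommGrpCat.{u}).preimageIso
    (((epsPreIso (SiteCmp.over_le h Z)).app ⟨M.obj, h3 Z M hM⟩).symm)⟩⟩

theorem van_of_Vn (n : ℕ) (hV : Vn h A' n) (Z : C) (M : Sheaf (J'.over Z) AddCommGrpCat.{u}) (hM : A' Z M) :
    Van (lz J J' Z) M ((n : ℤ) + 1) := by
  obtain ⟨G, ⟨e⟩⟩ := exists_sheaf_iso h A' h3 Z M hM
  intro a ha N hN φ
  rw [← cancel_mono ((singleFunctor _ 0).map e.inv), zero_comp]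
  exact van_eps (SiteCmp.over_le h Z) G n (hV Z G ((A' Z).prop_of_iso e.symm hM)) a ha N hN _

omit [∀ X : C, WSerre.IsWeakSerre (A' X)] in
/-- sheaves of the class are detected on a covering -/
theorem isZero_of_restr {W V : C} (w : W ⟶ V) (hw : Sieve.ofArrows (fun _ : PUnit.{u + 1} => W) (fun _ => w) ∈ J V)
    (M : Sheaf (J'.over V) AddCommGrpCat.{u}) (hM : A' V M) (hR : IsZero ((restr w J').obj M)) : IsZero M := by
  let G : Sheaf (J.over V) AddCommGrpCat.{u} := ⟨M.obj, h3 V M hM⟩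
  rw [IsZero.iff_id_eq_zero]
  ext U x
  let S : Sieve U.unop := (Sieve.overEquiv U.unop).symm
    ((Sieve.ofArrows (fun _ : PUnit.{u + 1} => W) (fun _ => w)).pullback U.unop.hom)
  have hS : S ∈ (J.over V) U.unop := J.overEquiv_symm_mem_over _ _ (J.pullback_stable _ hw)
  refine eq_zero_of_locally_zero G x S hS fun U' k hk => ?_
  obtain ⟨⟨⟩, a, ha⟩ := (Sieve.mem_ofArrows_iff _ _ _).1 hk
  have hz : IsZero (((restr w J').obj M).obj.obj (op (Over.mk a))) :=
    Functor.map_isZero (sheafToPresheaf (J'.over W) AddCommGrpCat.{u} ⋙ (evaluation _ _).obj (op (Over.mk a))) hR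
  let q : (Over.map w).obj (Over.mk a) ≅ U' := Over.isoMk (Iso.refl _) ((Category.id_comp _).trans ((Over.w k).symm.trans ha))
  have hz' : IsZero (M.obj.obj (op U')) := hz.of_iso (M.obj.mapIso q.op)
  exact @Subsingleton.elim _ (AddCommGrpCat.subsingleton_of_isZero hz') _ _

variable (P : MorphismProperty C)
  (h2 : ∀ ⦃X Y : C⦄ (f : X ⟶ Y) (F' : Sheaf (J'.over Y) AddCommGrpCat.{u}), A' Y F' →
    A' X ((CohSite.push (J'.over Y) (J'.over X) (Over.map f)).obj F'))
  (h4 : ∀ ⦃X Y : C⦄ (f : X ⟶ Y)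
    [((Over.map f).sheafPushforwardCocontinuous AddCommGrpCat.{u} (J'.over X) (J'.over Y)).Additive],
    P f → ∀ (F' : Sheaf (J'.over X) AddCommGrpCat.{u}), A' X F' → ∀ i : ℕ,
      A' Y ((((Over.map f).sheafPushforwardCocontinuous AddCommGrpCat.{u} (J'.over X) (J'.over Y)).rightDerived i).obj F'))
include h2 h4

/-- the unit of relocalisation is injective on `H^{n+1}` -/
theorem mono_unit_homology (n : ℕ) (hV : Vn h A' n) {W V X : C} (w : W ⟶ V) (hPw : P w)
    (hw : Sieve.ofArrows (fun _ : PUnit.{u + 1} => W) (fun _ => w) ∈ J V) (g : V ⟶ X)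
    (F : Sheaf (J.over X) AddCommGrpCat.{u}) (hF : A' X ((epsAt h X).obj F)) :
    Mono ((restrAdj w J').unit.app
      ((restr g J').obj ((homologyFunctor _ ((n : ℤ) + 1)).obj (Tobj (SiteCmp.over_le h X) F)))) := by
  let R := restr w J'
  let Rd := (rpush w J').mapHomotopyCategory (ComplexShape.up ℤ) ⋙ DerivedCategory.Qh
  haveI : Rd.HasRightDerivedFunctor (HomotopyCategory.quasiIso _ (ComplexShape.up ℤ)) :=
    (Groth.Agent.S1032.result SiteDer.exists_kInj Rd).1
  obtain ⟨adjf⟩ := SiteDer.nonempty_derivedAdjunction R (rpush w J') (restrAdj w J')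
  let T := Tres h g F
  haveI := isGE_Tres h g F
  let eT : ∀ i : ℤ, (homologyFunctor _ i).obj T ≅
      (restr g J').obj ((homologyFunctor _ i).obj (Tobj (SiteCmp.over_le h X) F)) :=
    fun i => (SiteRlim.mapDerivedHomologyIso (restr g J') i).app _
  have hT0 : A' V ((homologyFunctor _ 0).obj T) := by
    obtain ⟨e⟩ := nonempty_homology_Tobj_zero (SiteCmp.over_le h X) F
    exact (A' V).prop_of_iso (eT 0).symm (h2 g _ ((A' X).prop_of_iso e.symm hF))
  have hTn : ∀ i : ℤ, 1 ≤ i → i ≤ n → IsZero ((homologyFunctor _ i).obj T) := fun i hi1 hin => by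
    obtain ⟨p, rfl⟩ : ∃ p : ℕ, i = p := ⟨i.toNat, by omega⟩
    exact (Functor.map_isZero _ ((hV X F hF p (by omega) (by omega)).of_iso
      (nonempty_homology_Tobj (SiteCmp.over_le h X) F p).some)).of_iso (eT p)
  have hΦ : ∀ M, A' V M → WSerre.cohIn (A' V) ((Rd.totalRightDerived DerivedCategory.Qh
      (HomotopyCategory.quasiIso _ (ComplexShape.up ℤ))).obj (R.mapDerivedCategory.obj ((singleFunctor _ 0).obj M))) := by
    intro M hM i
    let RR := Rd.totalRightDerived DerivedCategory.Qh (HomotopyCategory.quasiIso _ (ComplexShape.up ℤ))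
    let η := Rd.totalRightDerivedUnit DerivedCategory.Qh (HomotopyCategory.quasiIso _ (ComplexShape.up ℤ))
    have hη : ∀ Z, SiteDer.kInjP Z → IsIso (η.app Z) := fun Z hZ => SiteDer.isIso_unit (rpush w J') hZ
    refine (A' V).prop_of_iso ((homologyFunctor _ i).mapIso
      (RR.mapIso ((R.mapDerivedCategorySingleFunctor 0).app M))).symm ?_
    rcases lt_or_ge i 0 with hi | hi
    · haveI := SiteRlim.isGE_rightDerived_single (rpush w J') RR η hη (R.obj M) 0
      exact (A' V).prop_of_isZero (isZero_of_isGE (RR.obj ((singleFunctor _ 0).obj (R.obj M))) 0 i hi)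
    · obtain ⟨p, rfl⟩ : ∃ p : ℕ, i = p := ⟨i.toNat, by omega⟩
      exact (A' V).prop_of_iso (SiteRlim.nonempty_homology_rightDerived_single (rpush w J') RR η hη (R.obj M) 0 p p
        (by simp)).some.symm (h4 w hPw _ (h2 w M hM) p)
  let M := (restr g J').obj ((homologyFunctor _ ((n : ℤ) + 1)).obj (Tobj (SiteCmp.over_le h X) F))
  let u := (restrAdj w J').unit.app M
  have hMz : lz J J' V ((homologyFunctor _ ((n : ℤ) + 1)).obj T) := by
    have h1 := locZero_homology_Tobj (SiteCmp.over_le h X) F ((n : ℤ) + 1) (by omega)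
    refine IsZero.of_iso (isZero_shfy_of (SiteCmp.over_le h V) M fun U s => ?_) ((shfy (J.over V) (J'.over V)).mapIso (eT _))
    obtain ⟨S, hS, hs⟩ := locally_zero_of_isZero_shfy _ h1 ((Over.map g).obj U) s
    refine ⟨S.functorPullback (Over.map g), ?_, fun U' k hk => hs _ hk⟩
    exact (Over.map g).cover_lift (J.over V) (J.over X) hS
  refine Preadditive.mono_of_kernel_iso_zero (IsZero.isoZero (IsZero.of_mono_eq_zero (kernel.ι u) ?_))
  let ι := kernel.ι u ≫ (eT ((n : ℤ) + 1)).inv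
  have hι : R.map ι = 0 := by
    haveI : Mono (R.map u) :=
      (SplitMono.mk ((restrAdj w J').counit.app (R.obj M)) ((restrAdj w J').left_triangle_components M)).mono
    have : R.map (kernel.ι u) = 0 := by
      rw [← cancel_mono (R.map u), ← R.map_comp, kernel.condition, R.map_zero, zero_comp]
    rw [R.map_comp, this, zero_comp]
  have h0 := eq_zero_of_map_eq_zero R adjf n (van_of_Vn h A' h3 n hV V) (isZero_of_restr h A' h3 w hw) hΦ T hT0 hTn
    (orth_Tres h g F) (locZero_of_mono (SiteCmp.over_le h V) ι hMz) ι hι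
  rw [← cancel_mono (eT ((n : ℤ) + 1)).inv, zero_comp]
  exact h0

end Groth.Agent.CmpTop
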