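import Groth.Agent.SiteDer.Adjoint
import Groth.Agent.SiteRlim.Derived
import Mathlib.Algebra.Homology.DerivedCategory.FullyFaithful

/-! # Objects receiving no maps from a class of objects in one degree -/

set_option autoImplicit false
set_option linter.all false
set_option backward.isDefEq.respectTransparency false
set_option backward.defeqAttrib.useBackward true

universe w w' v v' u u'

open CategoryTheory CategoryTheory.Limits Pretriangulated DerivedCategory

namespace Groth.Agent.CmpTop

variable {A : Type u} [Category.{v} A] [Abelian A] [HasDerivedCategory.{w} A] (Zc : ObjectProperty A)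

/-- no maps from shifted `Zc`-objects -/
def Orth (Y : DerivedCategory A) : Prop :=
  ∀ (a : ℤ) (N : A), Zc N → ∀ φ : (singleFunctor A a).obj N ⟶ Y, φ = 0

/-- vanishing of Ext out of `Zc`-objects up to degree `m` -/
def Van (M : A) (m : ℤ) : Prop :=
  ∀ a ≤ m, ∀ N, Zc N → ∀ φ : (singleFunctor A a).obj N ⟶ (singleFunctor A 0).obj M, φ = 0

variable {Zc}

lemma Orth.shift {Y : DerivedCategory A} (h : Orth Zc Y) (m : ℤ) : Orth Zc (Y⟦m⟧) := fun a N hN φ => by
  apply (shiftFunctor (DerivedCategory A) (-m)).map_injective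
  rw [Functor.map_zero, ← cancel_epi (((singleFunctors A).shiftIso (-m) (a + m) a (by omega)).app N).inv,
    comp_zero, ← cancel_mono ((shiftEquiv (DerivedCategory A) m).unitIso.inv.app Y), zero_comp]
  exact h (a + m) N hN _

lemma Van.single {M : A} {m : ℤ} (h : Van Zc M m) {a b : ℤ} (hab : a - b ≤ m) {N : A} (hN : Zc N)
    (φ : (singleFunctor A a).obj N ⟶ (singleFunctor A b).obj M) : φ = 0 := by
  apply (shiftFunctor (DerivedCategory A) b).map_injective
  rw [Functor.map_zero, ← cancel_epi (((singleFunctors A).shiftIso b (a - b) a (by omega)).app N).inv,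
    comp_zero, ← cancel_mono (((singleFunctors A).shiftIso b 0 b (by omega)).app M).hom, zero_comp]
  exact h (a - b) hab N hN _

/-- maps into a truncation are detected in the object -/
lemma eq_zero_of_comp_truncLEι (Y : DerivedCategory A) (m : ℤ) {X : DerivedCategory A} (a : ℤ) [X.IsLE a]
    (h : a ≤ m + 1) (φ : X ⟶ (TStructure.t.truncLE m).obj Y)
    (hφ : φ ≫ (TStructure.t.truncLEι m).app Y = 0) : φ = 0 := by
  have hT := TStructure.t.triangleLEGT_distinguished m Y
  obtain ⟨ψ, hψ⟩ := Triangle.coyoneda_exact₂ _ (inv_rot_of_distTriang _ hT) φ hφ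
  haveI : ((TStructure.t.truncGT m).obj Y).IsGE (m + 1) := inferInstance
  haveI := TStructure.t.isGE_shift ((TStructure.t.truncGT m).obj Y) (m + 1) (-1) (m + 2) (by omega)
  rw [hψ, TStructure.t.zero (X := X) (Y := ((TStructure.t.truncGT m).obj Y)⟦(-1 : ℤ)⟧) ψ a (m + 2) (by omega)]
  exact zero_comp

lemma isGE_truncLE_obj (Y : DerivedCategory A) (m c : ℤ) [Y.IsGE c] :
    ((TStructure.t.truncLE m).obj Y).IsGE c := by
  rw [DerivedCategory.isGE_iff]
  intro i hi
  by_cases h : i ≤ m
  · haveI := DerCat.isIso_homology_truncLEι Y m i h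
    exact (isZero_of_isGE Y c i hi).of_iso (asIso ((homologyFunctor A i).map ((TStructure.t.truncLEι m).app Y)))
  · exact isZero_of_isLE _ m i (by omega)

/-- `τ≤n` of an object with cohomology in degree zero only up to degree `n` -/
lemma exists_truncLE_single (T : DerivedCategory A) [T.IsGE 0] (n : ℕ)
    (hTn : ∀ i : ℤ, 1 ≤ i → i ≤ n → IsZero ((homologyFunctor A i).obj T)) :
    Nonempty ((TStructure.t.truncLE (n : ℤ)).obj T ≅ (singleFunctor A 0).obj ((homologyFunctor A 0).obj T)) := by
  haveI := isGE_truncLE_obj T (n : ℤ) 0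
  haveI : ((TStructure.t.truncLE (n : ℤ)).obj T).IsLE 0 := by
    rw [DerivedCategory.isLE_iff]
    intro i hi
    by_cases h : i ≤ (n : ℤ)
    · haveI := DerCat.isIso_homology_truncLEι T (n : ℤ) i h
      exact (hTn i (by omega) h).of_iso (asIso ((homologyFunctor A i).map ((TStructure.t.truncLEι (n : ℤ)).app T)))
    · exact isZero_of_isLE _ (n : ℤ) i (by omega)
  obtain ⟨e⟩ := DerCat.exists_iso_single_homology ((TStructure.t.truncLE (n : ℤ)).obj T) 0
  haveI := DerCat.isIso_homology_truncLEι T (n : ℤ) 0 (by omega)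
  exact ⟨e ≪≫ (singleFunctor A 0).mapIso
    (asIso ((homologyFunctor A 0).map ((TStructure.t.truncLEι (n : ℤ)).app T)))⟩

theorem van_of_orth (T : DerivedCategory A) [T.IsGE 0] (n : ℕ)
    (hTn : ∀ i : ℤ, 1 ≤ i → i ≤ n → IsZero ((homologyFunctor A i).obj T)) (hT : Orth Zc T)
    {M : A} (e : (homologyFunctor A 0).obj T ≅ M) : Van Zc M ((n : ℤ) + 1) := fun a ha N hN φ => by
  obtain ⟨e'⟩ := exists_truncLE_single T n hTn
  let e'' := e' ≪≫ (singleFunctor A 0).mapIso e
  rw [← cancel_mono e''.inv, zero_comp]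
  exact eq_zero_of_comp_truncLEι T (n : ℤ) a ha _ (hT a N hN _)

variable {S : ObjectProperty A}

/-- dévissage -/
theorem eq_zero_of_van [S.IsClosedUnderIsomorphisms] {m : ℤ} (hS : ∀ M, S M → Van Zc M m)
    (K : DerivedCategory A) (c : ℤ) [K.IsGE c] (hK : ∀ b, S ((homologyFunctor A b).obj K))
    {a : ℤ} (ha : a - c ≤ m) {N : A} (hN : Zc N) (φ : (singleFunctor A a).obj N ⟶ K) : φ = 0 := by
  have hT := TStructure.t.triangleLEGT_distinguished a K
  haveI : ((TStructure.t.truncGT a).obj K).IsGE (a + 1) := inferInstance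
  obtain ⟨ψ, hψ⟩ := Triangle.coyoneda_exact₂ _ hT φ
    (TStructure.t.zero (X := (singleFunctor A a).obj N) (Y := (TStructure.t.truncGT a).obj K) _ a (a + 1) (by omega))
  let Q : ObjectProperty (DerivedCategory A) := fun Y => ∀ χ : (singleFunctor A a).obj N ⟶ Y, χ = 0
  haveI : Q.IsClosedUnderIsomorphisms := ⟨fun {Y Y'} e h χ => by
    rw [← cancel_mono e.inv, zero_comp]; exact h _⟩
  haveI := isGE_truncLE_obj K a c
  have hQ : Q ((TStructure.t.truncLE a).obj K) :=
    DerCat.prop_of_single Q (fun Z hZ χ => hZ.eq_of_tgt _ _)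
      (fun T hT h₁ h₃ χ => by
        obtain ⟨θ, hθ⟩ := Triangle.coyoneda_exact₂ T hT χ (h₃ _)
        rw [hθ, h₁ θ, zero_comp])
      _ c a (fun i hi hia χ => by
        haveI := DerCat.isIso_homology_truncLEι K a i hia
        exact (hS _ (S.prop_of_iso (asIso ((homologyFunctor A i).map ((TStructure.t.truncLEι a).app K))).symm
          (hK i))).single (by omega) hN χ)
  rw [hψ, hQ ψ]
  exact zero_comp

variable {B : Type u'} [Category.{v'} B] [Abelian B] [HasDerivedCategory.{w'} B]
  (R : A ⥤ B) [R.Additive] [PreservesFiniteLimits R] [PreservesFiniteColimits R]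
  {Gf : DerivedCategory B ⥤ DerivedCategory A} (adjf : R.mapDerivedCategory ⊣ Gf) [WSerre.IsWeakSerre S]

section

include adjf

/-- the degree zero part of the unit is injective -/
theorem mono_homology_unit (hfaith : ∀ M, S M → IsZero (R.obj M) → IsZero M) {M : A} (hM : S M)
    (hΦ : WSerre.cohIn S (Gf.obj (R.mapDerivedCategory.obj ((singleFunctor A 0).obj M)))) :
    Mono ((homologyFunctor A 0).map (adjf.unit.app ((singleFunctor A 0).obj M))) := by
  let X := (singleFunctor A 0).obj M
  let q := (homologyFunctor A 0).map (adjf.unit.app X)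
  refine Preadditive.mono_of_kernel_iso_zero (IsZero.isoZero ?_)
  refine hfaith _ (SiteDer.prop_kernel S q (S.prop_of_iso (DerCat.homologySingleIso 0 M).symm hM) (hΦ 0)) ?_
  haveI : Mono ((homologyFunctor B 0).map (R.mapDerivedCategory.map (adjf.unit.app X))) := by
    exact (SplitMono.mk ((homologyFunctor B 0).map (adjf.counit.app (R.mapDerivedCategory.obj X)))
      (by
        rw [← Functor.map_comp]
        exact (congrArg (homologyFunctor B 0).map (adjf.left_triangle_components X)).trans (CategoryTheory.Functor.map_id _ _))).mono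
  haveI : Mono (R.map q) := by
    have h := (SiteRlim.mapDerivedHomologyIso R 0).hom.naturality (adjf.unit.app X)
    simp only [Functor.comp_map] at h
    rw [(Iso.eq_inv_comp ((SiteRlim.mapDerivedHomologyIso R 0).app X)).2 h.symm]
    exact mono_comp _ _
  have h0 : R.map (kernel.ι q) = 0 := by
    rw [← cancel_mono (R.map q), ← R.map_comp, kernel.condition, R.map_zero, zero_comp]
  exact IsZero.of_mono_eq_zero _ h0

/-- classes of one degree higher killed by `R` -/
theorem eq_zero_single_of_map_eq_zero (n : ℕ) (hS : ∀ M, S M → Van Zc M ((n : ℤ) + 1))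
    (hfaith : ∀ M, S M → IsZero (R.obj M) → IsZero M)
    (hΦ : ∀ M, S M → WSerre.cohIn S (Gf.obj (R.mapDerivedCategory.obj ((singleFunctor A 0).obj M))))
    {M N : A} (hM : S M) (hN : Zc N) {a : ℤ} (ha : a ≤ (n : ℤ) + 2)
    (ξ : (singleFunctor A a).obj N ⟶ (singleFunctor A 0).obj M)
    (hξ : R.mapDerivedCategory.map ξ = 0) : ξ = 0 := by
  letI := adjf.rightAdjointCommShift ℤ
  haveI := adjf.commShift_of_leftAdjoint ℤ
  haveI := adjf.isTriangulated_rightAdjoint
  let X := (singleFunctor A 0).obj M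
  let Y := Gf.obj (R.mapDerivedCategory.obj X)
  have h1 : ξ ≫ adjf.unit.app X = 0 := by
    have := adjf.unit.naturality ξ
    dsimp at this
    rw [this, hξ, Functor.map_zero, comp_zero]
  obtain ⟨K, k, δ, hT⟩ := distinguished_cocone_triangle₁ (adjf.unit.app X)
  obtain ⟨χ, hχ⟩ := Triangle.coyoneda_exact₂ _ hT ξ h1
  have hX : WSerre.cohIn S X := SiteDer.cohIn_single S hM 0
  have hY : WSerre.cohIn S Y := hΦ M hM
  have hK : WSerre.cohIn S K := by
    refine SiteDer.cohIn_obj₂ S _ (inv_rot_of_distTriang _ hT) (fun i => ?_) hX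
    exact S.prop_of_iso (((homologyFunctor A 0).shiftIso (-1) i (i - 1) (by omega)).app Y).symm (hY (i - 1))
  haveI : X.IsGE 0 := inferInstance
  haveI : (R.mapDerivedCategory.obj X).IsGE 0 := SiteDer.isGE_mapDerived R X 0
  haveI : Y.IsGE 0 := SiteDer.isGE_rightAdjoint adjf _ 0
  haveI : K.IsGE 1 := by
    rw [DerivedCategory.isGE_iff]
    intro i hi
    refine (HomologySequence.exact₁ _ hT (i - 1) i (by omega)).isZero_X₂
      ((isZero_of_isGE Y 0 (i - 1) (by omega)).eq_of_src _ _) ?_
    by_cases h : i = 0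
    · subst h
      haveI := mono_homology_unit R adjf hfaith hM (hΦ M hM)
      exact zero_of_comp_mono ((homologyFunctor A 0).map (adjf.unit.app X))
        (by rw [← Functor.map_comp]; erw [comp_distTriang_mor_zero₁₂ _ hT]; rw [Functor.map_zero])
    · exact (isZero_of_isGE X 0 i (by omega)).eq_of_tgt _ _
  rw [hχ, eq_zero_of_van hS K 1 hK (by omega) hN χ]
  exact zero_comp

/-- the step: `H^{n+1}` has no `Zc`-subobjects killed by `R` -/
theorem eq_zero_of_map_eq_zero (n : ℕ) (hS : ∀ M, S M → Van Zc M ((n : ℤ) + 1))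
    (hfaith : ∀ M, S M → IsZero (R.obj M) → IsZero M)
    (hΦ : ∀ M, S M → WSerre.cohIn S (Gf.obj (R.mapDerivedCategory.obj ((singleFunctor A 0).obj M))))
    (T : DerivedCategory A) [T.IsGE 0] (hT0 : S ((homologyFunctor A 0).obj T))
    (hTn : ∀ i : ℤ, 1 ≤ i → i ≤ n → IsZero ((homologyFunctor A i).obj T)) (hT : Orth Zc T)
    {N : A} (hN : Zc N) (ι : N ⟶ (homologyFunctor A ((n : ℤ) + 1)).obj T) (hι : R.map ι = 0) : ι = 0 := by
  let m : ℤ := (n : ℤ) + 1
  let T' := (TStructure.t.truncLE m).obj T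
  let ι' : T' ⟶ T := (TStructure.t.truncLEι m).app T
  haveI : T'.IsGE 0 := isGE_truncLE_obj T m 0
  have hiso : ∀ i ≤ m, IsIso ((homologyFunctor A i).map ι') := fun i hi => DerCat.isIso_homology_truncLEι T m i hi
  haveI := hiso 0 (by omega)
  haveI := hiso m le_rfl
  obtain ⟨e₀⟩ := exists_truncLE_single T' n fun i h1 h2 => by
    haveI := hiso i (by omega)
    exact (hTn i h1 h2).of_iso (asIso ((homologyFunctor A i).map ι'))
  let M := (homologyFunctor A 0).obj T
  let e₁ := e₀ ≪≫ (singleFunctor A 0).mapIso (asIso ((homologyFunctor A 0).map ι'))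
  let P := (TStructure.t.truncGT (n : ℤ)).obj T'
  haveI : P.IsGE m := inferInstance
  haveI : P.IsLE m := by
    rw [DerivedCategory.isLE_iff]
    intro i hi
    haveI := DerCat.isIso_homology_truncGTπ T' (n : ℤ) i (by omega)
    exact (isZero_of_isLE T' m i hi).of_iso
      (asIso ((homologyFunctor A i).map ((TStructure.t.truncGTπ (n : ℤ)).app T'))).symm
  obtain ⟨eP⟩ := DerCat.exists_iso_single_homology P m
  haveI := DerCat.isIso_homology_truncGTπ T' (n : ℤ) m (by omega)
  let eQ : P ≅ (singleFunctor A m).obj ((homologyFunctor A m).obj T) := eP ≪≫ (singleFunctor A m).mapIso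
    ((asIso ((homologyFunctor A m).map ((TStructure.t.truncGTπ (n : ℤ)).app T'))).symm ≪≫
      asIso ((homologyFunctor A m).map ι'))
  let φ : (singleFunctor A m).obj N ⟶ P := (singleFunctor A m).map ι ≫ eQ.inv
  have hRs : R.mapDerivedCategory.map ((singleFunctor A m).map ι) = 0 := by
    rw [← cancel_mono ((R.mapDerivedCategorySingleFunctor m).hom.app _), zero_comp]
    refine ((R.mapDerivedCategorySingleFunctor m).hom.naturality ι).trans ?_
    rw [Functor.comp_map, hι, Functor.map_zero, comp_zero]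
  have hRφ : R.mapDerivedCategory.map φ = 0 := by rw [Functor.map_comp, hRs, zero_comp]
  have hTL := TStructure.t.triangleLEGT_distinguished (n : ℤ) T'
  obtain ⟨ψ, hψ⟩ := Triangle.coyoneda_exact₃ _ hTL φ (by
    let ξ : (singleFunctor A m).obj N ⟶ ((singleFunctor A 0).obj M)⟦(1 : ℤ)⟧ :=
      φ ≫ ((TStructure.t.triangleLEGT (n : ℤ)).obj T').mor₃ ≫ e₁.hom⟦(1 : ℤ)⟧'
    have hRξ : R.mapDerivedCategory.map ξ = 0 := by rw [Functor.map_comp, hRφ, zero_comp]
    suffices hξ : ξ = 0 by
      rw [← cancel_mono (e₁.hom⟦(1 : ℤ)⟧'), zero_comp, Category.assoc]; exact hξ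
    apply (shiftFunctor (DerivedCategory A) (-1 : ℤ)).map_injective
    rw [Functor.map_zero, ← cancel_epi (((singleFunctors A).shiftIso (-1) (m + 1) m (by omega)).app N).inv,
      comp_zero, ← cancel_mono ((shiftEquiv (DerivedCategory A) (1 : ℤ)).unitIso.inv.app ((singleFunctor A 0).obj M)),
      zero_comp]
    refine eq_zero_single_of_map_eq_zero R adjf n hS hfaith hΦ hT0 hN (by omega) _ ?_
    have h2 : R.mapDerivedCategory.map (ξ⟦(-1 : ℤ)⟧') = 0 := by
      rw [← cancel_mono ((R.mapDerivedCategory.commShiftIso (-1 : ℤ)).hom.app _), zero_comp]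
      refine ((R.mapDerivedCategory.commShiftIso (-1 : ℤ)).hom.naturality ξ).trans ?_
      rw [Functor.comp_map, hRξ, Functor.map_zero, comp_zero]
    rw [Functor.map_comp, Functor.map_comp, h2, comp_zero, zero_comp])
  have hψ0 : ψ = 0 := eq_zero_of_comp_truncLEι T m m (by omega) ψ (hT m N hN _)
  apply (singleFunctor A m).map_injective
  rw [Functor.map_zero, ← cancel_mono eQ.inv, zero_comp]
  exact hψ.trans (by rw [hψ0]; exact zero_comp)

end

end Groth.Agent.CmpTop
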