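import Groth.Agent.CmpTop.MapExact
import Groth.Agent.CohAcyc.Sections
import Mathlib.CategoryTheory.Limits.ConcreteCategory.Basic
import Mathlib.CategoryTheory.Abelian.RightDerived

/-! # Sections of relocalisation push-forwards, local liftings -/

set_option autoImplicit false
set_option linter.all false
set_option backward.isDefEq.respectTransparency false
set_option backward.defeqAttrib.useBackward true

universe u

open CategoryTheory CategoryTheory.Limits Opposite

namespace Groth.Agent.CmpTop

variable {C : Type u} [SmallCategory C]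

section Proj

variable {X Y : C} (f : X ⟶ Y) (J' : GrothendieckTopology C)

/-- restriction followed by relocalisation push-forward -/
noncomputable abbrev rr : Sheaf (J'.over Y) AddCommGrpCat.{u} ⥤ Sheaf (J'.over Y) AddCommGrpCat.{u} :=
  restr f J' ⋙ rpush f J'

variable {f J'}

/-- projection of sections of the push-forward -/
noncomputable def proj {W : Over X} {Z : Over Y} (k : (Over.map f).obj W ⟶ Z)
    (M : Sheaf (J'.over Y) AddCommGrpCat.{u}) :
    ((rr f J').obj M).obj.obj (op Z) ⟶ M.obj.obj (op ((Over.map f).obj W)) :=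
  ((Over.map f).op.ran.obj ((restr f J').obj M).obj).map k.op ≫
    ((Over.map f).op.ranCounit.app ((restr f J').obj M).obj).app (op W)

lemma proj_map {W : Over X} {Z Z' : Over Y} (k : (Over.map f).obj W ⟶ Z) (g : Z ⟶ Z')
    (M : Sheaf (J'.over Y) AddCommGrpCat.{u}) (y : ((rr f J').obj M).obj.obj (op Z')) :
    proj k M (((rr f J').obj M).obj.map g.op y) = proj (k ≫ g) M y := by
  simp only [proj, op_comp, Functor.map_comp]
  rfl

lemma proj_hom {W : Over X} {Z : Over Y} (k : (Over.map f).obj W ⟶ Z)
    {M M' : Sheaf (J'.over Y) AddCommGrpCat.{u}} (φ : M ⟶ M') (y : ((rr f J').obj M).obj.obj (op Z)) :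
    proj k M' (((rr f J').map φ).hom.app (op Z) y) = φ.hom.app (op ((Over.map f).obj W)) (proj k M y) := by
  have h1 := ConcreteCategory.congr_hom
    (((Over.map f).op.ran.map ((restr f J').map φ).hom).naturality k.op) y
  have h2 := ConcreteCategory.congr_hom
    (congr_app ((Over.map f).op.ranCounit.naturality ((restr f J').map φ).hom) (op W))
    (((Over.map f).op.ran.obj ((restr f J').obj M).obj).map k.op y)
  refine ((congrArg _ h1.symm).trans ?_)
  exact h2

/-- at a pullback object the projection is bijective -/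
theorem bijective_proj {W : Over X} {Z : Over Y} (k : (Over.map f).obj W ⟶ Z)
    (hk : ∀ (U : Over X) (l : (Over.map f).obj U ⟶ Z), ∃! a : U ⟶ W, (Over.map f).map a ≫ k = l)
    (M : Sheaf (J'.over Y) AddCommGrpCat.{u}) : Function.Bijective (proj k M) := by
  choose a ha hu using hk
  let F₁ := ((restr f J').obj M).obj
  let hl := (Over.map f).op.isPointwiseRightKanExtensionRanCounit F₁ (op Z)
  let s : Cone (StructuredArrow.proj (op Z) (Over.map f).op ⋙ F₁) :=
    { pt := F₁.obj (op W)
      π := { app := fun d => F₁.map (a d.right.unop d.hom.unop).op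
             naturality := fun d d' φ => by
              dsimp
              rw [Category.id_comp, ← F₁.map_comp]
              congr 1
              refine (Quiver.Hom.unop_inj ?_)
              refine (hu d'.right.unop d'.hom.unop _ ?_).symm
              have hw := congrArg Quiver.Hom.unop (StructuredArrow.w φ)
              simp only [Functor.op_map, unop_comp, Quiver.Hom.unop_op] at hw
              rw [← hw]
              show (Over.map f).map (φ.right.unop ≫ a d.right.unop d.hom.unop) ≫ k = _
              rw [Functor.map_comp, Category.assoc, ha] } }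
  let d₀ : StructuredArrow (op Z) (Over.map f).op := StructuredArrow.mk (Y := op W) k.op
  refine ⟨fun y y' hy => ?_, fun x => ⟨hl.lift s x, ?_⟩⟩
  · refine Concrete.isLimit_ext _ hl y y' fun d => ?_
    let e : d₀ ⟶ d := StructuredArrow.homMk (a d.right.unop d.hom.unop).op
      (Quiver.Hom.unop_inj (ha d.right.unop d.hom.unop))
    let c := (((Functor.RightExtension.mk _ ((Over.map f).op.ranCounit.app F₁)).coneAt (op Z)))
    have hc := c.w e
    rw [← hc]
    exact congrArg (F₁.map e.right) hy
  · have h := ConcreteCategory.congr_hom (hl.fac s d₀) x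
    refine h.trans ?_
    show F₁.map (a W k).op x = x
    rw [show a W k = 𝟙 W from (hu W k _ (by show (Over.map f).map (𝟙 W) ≫ k = k; rw [CategoryTheory.Functor.map_id, Category.id_comp])).symm, op_id, F₁.map_id]
    rfl

theorem existsUnique_of_isPullback {W : C} {Z : Over Y} {p : W ⟶ Z.left} {q : W ⟶ X}
    (hW : IsPullback p q Z.hom f) (U : Over X) (l : (Over.map f).obj U ⟶ Z) :
    ∃! a : U ⟶ Over.mk q, (Over.map f).map a ≫ (Over.homMk p hW.w : (Over.map f).obj (Over.mk q) ⟶ Z) = l := by
  refine ⟨Over.homMk (hW.lift l.left U.hom (Over.w l)) (hW.lift_snd _ _ _), ?_, fun b hb => ?_⟩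
  · exact Over.OverMorphism.ext (hW.lift_fst _ _ _)
  · apply Over.OverMorphism.ext
    apply hW.hom_ext
    · exact (congrArg CommaMorphism.left hb).trans (hW.lift_fst _ _ _).symm
    · exact (Over.w b).trans (hW.lift_snd _ _ _).symm

end Proj

section Lift

variable {E : Type u} [SmallCategory E] {K : GrothendieckTopology E}

/-- exact sequences of sheaves: local liftings -/
theorem exists_local_lift {S : ShortComplex (Sheaf K AddCommGrpCat.{u})} (hS : S.Exact) {U : E}
    (x : S.X₂.obj.obj (op U)) (hx : S.g.hom.app (op U) x = 0) :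
    ∃ T ∈ K U, ∀ ⦃V : E⦄ (v : V ⟶ U), T v → ∃ t, S.f.hom.app (op V) t = S.X₂.obj.map v.op x := by
  let φ := (CohAcyc.secEquiv' U S.X₂).symm x
  have hφ : φ ≫ S.g = 0 := by
    apply (CohAcyc.secEquiv' U S.X₃).injective
    rw [CohAcyc.secEquiv'_comp, Equiv.apply_symm_apply, hx]
    have h := CohAcyc.secEquiv'_comp U (0 : CohCx.freeSheaf K U ⟶ S.X₂) (0 : S.X₂ ⟶ S.X₃)
    rw [zero_comp] at h
    exact h.symm
  let y := CohAcyc.secEquiv' U _ (kernel.lift S.g φ hφ)
  have hy : (kernel.ι S.g).hom.app (op U) y = x := by
    rw [← CohAcyc.secEquiv'_comp, kernel.lift_ι]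
    exact Equiv.apply_symm_apply _ _
  let q := kernel.lift S.g S.f S.zero
  haveI : Epi q := hS.epi_kernelLift
  haveI : Sheaf.IsLocallySurjective q :=
    (Sheaf.isLocallySurjective_iff_epi' (A := AddCommGrpCat.{u}) q).2 inferInstance
  refine ⟨_, Presheaf.imageSieve_mem K q.hom y, fun V v hv => ?_⟩
  obtain ⟨t, ht⟩ := hv
  refine ⟨t, ?_⟩
  have h1 : S.f.hom.app (op V) t = (kernel.ι S.g).hom.app (op V) (q.hom.app (op V) t) :=
    (ConcreteCategory.congr_hom (congr_app (congrArg (fun e => e.hom) (kernel.lift_ι S.g S.f S.zero)) (op V)) t).symm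
  rw [h1, ht]
  exact (ConcreteCategory.congr_hom ((kernel.ι S.g).hom.naturality v.op) y).trans (congrArg _ hy)

lemma injective_app_of_mono {F G : Sheaf K AddCommGrpCat.{u}} (φ : F ⟶ G) [Mono φ] (U : Eᵒᵖ) :
    Function.Injective (φ.hom.app U) := by
  haveI : Mono (φ.hom.app U) :=
    inferInstanceAs (Mono ((sheafToPresheaf K AddCommGrpCat.{u} ⋙ (evaluation _ _).obj U).map φ))
  exact (AddCommGrpCat.mono_iff_injective (φ.hom.app U)).1 inferInstance

/-- a cycle gives a section of the homology -/
theorem exists_cycle_section {S : ShortComplex (Sheaf K AddCommGrpCat.{u})} {U : E}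
    (x : S.X₂.obj.obj (op U)) (hx : S.g.hom.app (op U) x = 0) :
    ∃ y : S.cycles.obj.obj (op U), S.iCycles.hom.app (op U) y = x := by
  let φ := (CohAcyc.secEquiv' U S.X₂).symm x
  have hφ : φ ≫ S.g = 0 := by
    apply (CohAcyc.secEquiv' U S.X₃).injective
    rw [CohAcyc.secEquiv'_comp, Equiv.apply_symm_apply, hx]
    have h := CohAcyc.secEquiv'_comp U (0 : CohCx.freeSheaf K U ⟶ S.X₂) (0 : S.X₂ ⟶ S.X₃)
    rw [zero_comp] at h
    exact h.symm
  refine ⟨CohAcyc.secEquiv' U _ (S.liftCycles φ hφ), ?_⟩
  rw [← CohAcyc.secEquiv'_comp, S.liftCycles_i]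
  exact Equiv.apply_symm_apply _ _

end Lift

section Resolution

variable {X Y : C} (f : X ⟶ Y) (J' : GrothendieckTopology C)

/-- restriction of an injective resolution -/
noncomputable def restrRes {F : Sheaf (J'.over Y) AddCommGrpCat.{u}} (R : InjectiveResolution F) :
    InjectiveResolution ((restr f J').obj F) where
  cocomplex := ((restr f J').mapHomologicalComplex (ComplexShape.up ℕ)).obj R.cocomplex
  injective n := by
    let adj := (Over.map f).sheafAdjunctionContinuous AddCommGrpCat.{u} (J'.over X) (J'.over Y)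
    haveI := sheafPullback_map_preservesFiniteLimits f J'
    haveI : ((Over.map f).sheafPullback AddCommGrpCat.{u} (J'.over X) (J'.over Y)).PreservesMonomorphisms :=
      preservesMonomorphisms_of_preservesLimitsOfShape _
    haveI : Injective (R.cocomplex.X n) := R.injective n
    exact Injective.injective_of_adjoint adj (R.cocomplex.X n)
  ι := (HomologicalComplex.singleMapHomologicalComplex (restr f J') (ComplexShape.up ℕ) 0).inv.app F ≫
    ((restr f J').mapHomologicalComplex (ComplexShape.up ℕ)).map R.ι

theorem nonempty_homology_rr {F : Sheaf (J'.over Y) AddCommGrpCat.{u}} (R : InjectiveResolution F) (i : ℕ) :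
    Nonempty ((((rr f J').mapHomologicalComplex (ComplexShape.up ℕ)).obj R.cocomplex).homology i ≅
      ((rpush f J').rightDerived i).obj ((restr f J').obj F)) :=
  ⟨((restrRes f J' R).isoRightDerivedObj (rpush f J') i).symm⟩

end Resolution

end Groth.Agent.CmpTop
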