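import Groth.Agent.CmpTop.Localise
import Mathlib.CategoryTheory.Limits.ConcreteCategory.Basic

/-! # Vanishing of the higher direct images to the coarser topology -/

set_option autoImplicit false
set_option linter.all false
set_option backward.isDefEq.respectTransparency false
set_option backward.defeqAttrib.useBackward true

universe u

open CategoryTheory CategoryTheory.Limits Opposite DerivedCategory

attribute [local instance] HasDerivedCategory.standard

namespace Groth.Agent.CmpTop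

variable {C : Type u} [SmallCategory C]

/-- a section on the base killed by `w` is zero when the unit is injective -/
theorem eq_zero_of_mono_unit (J' : GrothendieckTopology C) {W V : C} (w : W ⟶ V)
    (M : Sheaf (J'.over V) AddCommGrpCat.{u}) [Mono ((restrAdj w J').unit.app M)]
    (t : M.obj.obj (op (Over.mk (𝟙 V))))
    (ht : M.obj.map (Over.homMk w : Over.mk w ⟶ Over.mk (𝟙 V)).op t = 0) : t = 0 := by
  let u := (restrAdj w J').unit.app M
  haveI : Mono (u.hom.app (op (Over.mk (𝟙 V)))) :=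
    inferInstanceAs (Mono ((sheafToPresheaf (J'.over V) AddCommGrpCat.{u} ⋙
      (evaluation _ _).obj (op (Over.mk (𝟙 V)))).map u))
  apply (AddCommGrpCat.mono_iff_injective (u.hom.app (op (Over.mk (𝟙 V))))).1 inferInstance
  rw [map_zero]
  let F₁ := ((restr w J').obj M).obj
  let y := u.hom.app (op (Over.mk (𝟙 V))) t
  have hy : ((Over.map w).op.ran.obj F₁).map (Over.homMk w : Over.mk w ⟶ Over.mk (𝟙 V)).op y = 0 := by
    refine (ConcreteCategory.congr_hom (u.hom.naturality (Over.homMk w : Over.mk w ⟶ Over.mk (𝟙 V)).op) t).symm.trans ?_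
    exact (congrArg (u.hom.app (op (Over.mk w))) ht).trans (map_zero _)
  refine Concrete.isLimit_ext _ ((Over.map w).op.isPointwiseRightKanExtensionRanCounit F₁ (op (Over.mk (𝟙 V)))) y 0
    fun d => ?_
  rw [map_zero]
  show (((Over.map w).op.ranCounit.app F₁).app d.right) (((Over.map w).op.ran.obj F₁).map d.hom y) = 0
  have hd : d.hom = (Over.homMk w : Over.mk w ⟶ Over.mk (𝟙 V)).op ≫
      (Over.homMk d.right.unop.hom : (Over.map w).obj d.right.unop ⟶ Over.mk w).op := by
    apply Quiver.Hom.unop_inj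
    apply Over.OverMorphism.ext
    exact ((Category.comp_id _).symm.trans (Over.w d.hom.unop))
  rw [hd, Functor.map_comp, CategoryTheory.comp_apply, hy, map_zero, map_zero]

variable {J J' : GrothendieckTopology C} (h : J' ≤ J) (P : MorphismProperty C)
  (A' : ∀ X : C, ObjectProperty (Sheaf (J'.over X) AddCommGrpCat.{u})) [∀ X : C, WSerre.IsWeakSerre (A' X)]
  (h2 : ∀ ⦃X Y : C⦄ (f : X ⟶ Y) (F' : Sheaf (J'.over Y) AddCommGrpCat.{u}), A' Y F' →
    A' X ((CohSite.push (J'.over Y) (J'.over X) (Over.map f)).obj F'))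
  (h3 : ∀ (X : C) (F' : Sheaf (J'.over X) AddCommGrpCat.{u}), A' X F' → Presheaf.IsSheaf (J.over X) F'.obj)
  (h4 : ∀ ⦃X Y : C⦄ (f : X ⟶ Y)
    [((Over.map f).sheafPushforwardCocontinuous AddCommGrpCat.{u} (J'.over X) (J'.over Y)).Additive],
    P f → ∀ (F' : Sheaf (J'.over X) AddCommGrpCat.{u}), A' X F' → ∀ i : ℕ,
      A' Y ((((Over.map f).sheafPushforwardCocontinuous AddCommGrpCat.{u} (J'.over X) (J'.over Y)).rightDerived i).obj F'))
  (h5 : ∀ (U : C) (S : Sieve U), S ∈ J U → ∃ (ι : Type u) (V : ι → C) (v : ∀ j, V j ⟶ U),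
    Sieve.ofArrows V v ∈ J' U ∧ ∀ j, ∃ (W : C) (w : W ⟶ V j), P w ∧
      Sieve.ofArrows (fun _ : PUnit.{u + 1} => W) (fun _ => w) ∈ J (V j) ∧
      ∃ (κ : Type u) (Wk : κ → C) (wk : ∀ k, Wk k ⟶ W), Sieve.ofArrows Wk wk ∈ J' W ∧
        ∀ k, S.arrows (wk k ≫ w ≫ v j))
include h2 h3 h4 h5

theorem Vn_succ (n : ℕ) (hV : Vn h A' n) : Vn h A' (n + 1) := by
  intro X F hF i hi1 hi
  rcases Nat.lt_or_ge i (n + 1) with hlt | hge
  · exact hV X F hF i hi1 (by omega)
  obtain rfl : i = n + 1 := by omega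
  refine IsZero.of_iso ?_ (nonempty_homology_Tobj (SiteCmp.over_le h X) F (n + 1)).some.symm
  let H := (homologyFunctor _ ((n : ℤ) + 1)).obj (Tobj (SiteCmp.over_le h X) F)
  show IsZero H
  have hH : lz J J' X H := locZero_homology_Tobj (SiteCmp.over_le h X) F _ (by omega)
  rw [IsZero.iff_id_eq_zero]
  ext U s
  show s = 0
  obtain ⟨S, hS, hs⟩ := locally_zero_of_isZero_shfy _ hH U.unop s
  obtain ⟨ι, V, v, hv, hW⟩ := h5 _ _ ((J.mem_over_iff S).1 hS)
  let S' : Sieve U.unop := (Sieve.overEquiv U.unop).symm (Sieve.ofArrows V v)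
  refine eq_zero_of_locally_zero H s S' (J'.overEquiv_symm_mem_over _ _ hv) fun U' k hk => ?_
  obtain ⟨j, a, ha⟩ := (Sieve.mem_ofArrows_iff _ _ _).1 hk
  obtain ⟨W, w, hPw, hw, κ, Wk, wk, hwk, hkill⟩ := hW j
  let g : V j ⟶ X := v j ≫ U.unop.hom
  haveI := mono_unit_homology h A' h3 P h2 h4 n hV w hPw hw g F hF
  let m : (Over.map g).obj (Over.mk (𝟙 (V j))) ⟶ U.unop :=
    Over.homMk (v j) (Category.id_comp _).symm
  let t := H.obj.map m.op s
  have ht : t = 0 := by
    refine eq_zero_of_mono_unit J' w ((restr g J').obj H) t ?_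
    show H.obj.map ((Over.map g).map (Over.homMk w : Over.mk w ⟶ Over.mk (𝟙 (V j)))).op (H.obj.map m.op s) = 0
    rw [← CategoryTheory.comp_apply, ← Functor.map_comp, ← op_comp]
    let Wo := (Over.map g).obj (Over.mk w)
    let S'' : Sieve Wo := (Sieve.overEquiv Wo).symm (Sieve.ofArrows Wk wk)
    refine eq_zero_of_locally_zero H _ S'' (J'.overEquiv_symm_mem_over _ _ hwk) fun Z z hz => ?_
    obtain ⟨l, b, hb⟩ := (Sieve.mem_ofArrows_iff _ _ _).1 hz
    rw [← CategoryTheory.comp_apply, ← Functor.map_comp, ← op_comp]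
    refine hs _ ?_
    have h1 := (Sieve.overEquiv_iff S _).1 (hkill l)
    let b' : Z ⟶ Over.mk ((wk l ≫ w ≫ v j) ≫ U.unop.hom) := Over.homMk b (by
      have := Over.w z
      show b ≫ (wk l ≫ w ≫ v j) ≫ U.unop.hom = Z.hom
      rw [← this, show z.left = b ≫ wk l from hb]
      show b ≫ (wk l ≫ w ≫ v j) ≫ U.unop.hom = (b ≫ wk l) ≫ w ≫ v j ≫ U.unop.hom
      simp)
    have h2 := S.downward_closed h1 b'
    convert h2 using 1
    apply Over.OverMorphism.ext
    show z.left ≫ w ≫ v j = b ≫ wk l ≫ w ≫ v j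
    rw [show z.left = b ≫ wk l from hb, Category.assoc]
  have e : k = (Over.homMk a (by
      show a ≫ 𝟙 (V j) ≫ v j ≫ U.unop.hom = U'.hom
      rw [Category.id_comp, ← Over.w k, ← Category.assoc]
      exact congrArg (· ≫ U.unop.hom) (ha.symm)) : U' ⟶ (Over.map g).obj (Over.mk (𝟙 (V j)))) ≫ m := by
    apply Over.OverMorphism.ext
    exact ha
  rw [e, op_comp, Functor.map_comp, CategoryTheory.comp_apply, show H.obj.map m.op s = 0 from ht, map_zero]

theorem Vn_all (n : ℕ) : Vn h A' n := by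
  induction n with
  | zero => exact fun Z G hG i h1 h2 => absurd h2 (by omega)
  | succ n hn => exact Vn_succ h P A' h2 h3 h4 h5 n hn

end Groth.Agent.CmpTop
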